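/-
Isolated involutions: fusion control, products of conjugates, square roots.
-/
import Cfsg.Prelude.Def_TwoFusion
import Cfsg.Agent.Lib.Involutions.Isolated
import Cfsg.Agent.Lib.TwoGroupTricks.Isolated

namespace CfsgLib.TwoFusion

open Cfsg

variable {G : Type*} [Group G] {z : G}

/-- The square root of an element of odd order. -/
noncomputable def oddRoot (c : G) : G := c ^ ((orderOf c + 1) / 2)

theorem oddRoot_sq {c : G} (h : Odd (orderOf c)) : oddRoot c ^ 2 = c := by
  obtain ⟨o, ho⟩ := h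
  rw [oddRoot, ← pow_mul, show (orderOf c + 1) / 2 * 2 = orderOf c + 1 by omega, pow_succ,
    pow_orderOf_eq_one, one_mul]

theorem oddRoot_of_sq {k : G} (h : Odd (orderOf k)) : oddRoot (k ^ 2) = k := by
  have h2 : orderOf (k ^ 2) = orderOf k :=
    Nat.Coprime.orderOf_pow (Nat.coprime_two_right.2 h)
  obtain ⟨o, ho⟩ := h
  rw [oddRoot, h2, ← pow_mul, show 2 * ((orderOf k + 1) / 2) = orderOf k + 1 by omega, pow_succ,
    pow_orderOf_eq_one, one_mul]

theorem eq_of_sq_eq {a b : G} (ha : Odd (orderOf a)) (hb : Odd (orderOf b)) (h : a ^ 2 = b ^ 2) :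
    a = b := by
  rw [← oddRoot_of_sq ha, h, oddRoot_of_sq hb]

theorem map_oddRoot (φ : MulAut G) (c : G) : φ (oddRoot c) = oddRoot (φ c) := by
  rw [oddRoot, map_pow, oddRoot, MulEquiv.orderOf_eq]

theorem inv_oddRoot (c : G) : oddRoot c⁻¹ = (oddRoot c)⁻¹ := by
  rw [oddRoot, oddRoot, orderOf_inv, inv_pow]

theorem odd_oddRoot {c : G} (h : Odd (orderOf c)) : Odd (orderOf (oddRoot c)) :=
  h.of_dvd_nat (orderOf_pow_dvd _)

theorem conj_oddRoot (g c : G) : g * oddRoot c * g⁻¹ = oddRoot (g * c * g⁻¹) :=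
  map_oddRoot (MulAut.conj g) c

theorem isIsolated_of_involution (hz : IsIsolatedInvolution z) : IsIsolated z := hz.2

theorem orderOf_pow_two (hz : IsIsolatedInvolution z) : ∃ k : ℕ, orderOf z = 2 ^ k :=
  ⟨1, by rw [hz.1, pow_one]⟩

theorem inv_self (hz : IsIsolatedInvolution z) : z⁻¹ = z :=
  CfsgLib.Involutions.inv_eq_self hz.1

theorem mul_self (hz : IsIsolatedInvolution z) : z * z = 1 :=
  CfsgLib.Involutions.mul_self_eq_one hz.1

theorem mul_self_cancel (hz : IsIsolatedInvolution z) (t : G) : z * (z * t) = t := by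
  rw [← mul_assoc, mul_self hz, one_mul]

theorem isolated_conj (hz : IsIsolatedInvolution z) (g : G) :
    IsIsolatedInvolution (g * z * g⁻¹) :=
  ⟨(CfsgLib.Involutions.orderOf_conj g z).trans hz.1,
    CfsgLib.TwoGroupTricks.conj_isolated hz.2 g⟩

/-- The product of an isolated involution with a conjugate has odd order. -/
theorem odd_mul_conj [Finite G] (hz : IsIsolatedInvolution z) (g : G) :
    Odd (orderOf (z * (g * z * g⁻¹))) := by
  have : Fact (Nat.Prime 2) := ⟨Nat.prime_two⟩
  obtain ⟨P, hP⟩ := (CfsgLib.TwoGroupTricks.isPGroup_zpowers (p := 2)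
    (orderOf_pow_two hz)).exists_le_sylow
  exact CfsgLib.Involutions.odd_orderOf_mul_of_isolated (P := P) hz.1
    (fun g hg => CfsgLib.TwoGroupTricks.conj_eq_of_mem hz.2 P.2
      (hP (Subgroup.mem_zpowers z)) hg) (isConj_iff.2 ⟨g, rfl⟩)

/-- The product of two conjugates of an isolated involution has odd order. -/
theorem odd_mul_of_isConj [Finite G] (hz : IsIsolatedInvolution z) {t u : G} (ht : IsConj z t)
    (hu : IsConj z u) : Odd (orderOf (t * u)) := by
  obtain ⟨g, rfl⟩ := isConj_iff.1 ht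
  obtain ⟨h, rfl⟩ := isConj_iff.1 (ht.symm.trans hu)
  exact odd_mul_conj (isolated_conj hz g) h

/-- The elements of odd order inverted by `z` are the `t z` for the conjugates `t` of `z`. -/
theorem isConj_mul_right (hz : IsIsolatedInvolution z) {k : G} (hk : Odd (orderOf k))
    (hi : z * k * z⁻¹ = k⁻¹) : IsConj z (k * z) := by
  set r := oddRoot k with hr
  have h1 : z * r * z⁻¹ = r⁻¹ := by rw [hr, conj_oddRoot, hi, inv_oddRoot]
  refine isConj_iff.2 ⟨r, ?_⟩
  have h2 : z * r⁻¹ * z⁻¹ = r := by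
    have h3 := congrArg (fun t => t⁻¹) h1
    simp only [mul_inv_rev, inv_inv, ← mul_assoc] at h3
    exact h3
  calc r * z * r⁻¹ = r * (z * r⁻¹ * z⁻¹) * z := by group
    _ = r ^ 2 * z := by rw [h2, pow_two]
    _ = k * z := by rw [hr, oddRoot_sq hk]

theorem inverted_of_isConj [Finite G] (hz : IsIsolatedInvolution z) {k : G}
    (ht : IsConj z (k * z)) : Odd (orderOf k) ∧ z * k * z⁻¹ = k⁻¹ := by
  constructor
  · have h1 := odd_mul_of_isConj hz ht (IsConj.refl z)
    rwa [mul_assoc, mul_self hz, mul_one] at h1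
  · have h2 := CfsgLib.Involutions.mul_self_eq_one
      ((CfsgLib.Involutions.orderOf_eq_of_isConj ht).symm.trans hz.1)
    rw [inv_self hz]
    exact eq_inv_of_mul_eq_one_left (mul_right_cancel (b := z) (by
      rw [one_mul]
      calc z * k * z * k * z = z * (k * z * (k * z)) := by group
        _ = z := by rw [h2, mul_one]))

/-- `C(z)` controls the fusion of elements commuting with `z` inside a subgroup normalized by `z`. -/
theorem exists_commute_conj [Finite G] (hz : IsIsolatedInvolution z) {H : Subgroup G}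
    (hzH : z ∈ Subgroup.normalizer (H : Set G)) {x y : G} (hxz : Commute x z) (hyz : Commute y z)
    {h : G} (hh : h ∈ H) (hconj : h * x * h⁻¹ = y) :
    ∃ c ∈ H, Commute c z ∧ c * x * c⁻¹ = y := by
  have : Fact (Nat.Prime 2) := ⟨Nat.prime_two⟩
  let D : Subgroup G := H ⊓ Subgroup.centralizer {x}
  have hzN : z ∈ Subgroup.normalizer (D : Set G) := by
    rw [Subgroup.mem_normalizer_iff]
    intro t
    have hx' : z * x * z⁻¹ = x := by rw [← hxz.eq, mul_inv_cancel_right]
    have e1 := Subgroup.mem_normalizer_iff.1 hzH t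
    simp only [D, Subgroup.mem_inf, CfsgLib.Involutions.mem_centralizer_singleton, ← e1]
    refine and_congr_right fun _ => ⟨fun ht => ?_, fun ht => ?_⟩
    · conv_lhs => rw [← hx']
      conv_rhs => rw [← hx']
      rw [show z * t * z⁻¹ * (z * x * z⁻¹) = z * (t * x) * z⁻¹ by group, ht]
      group
    · have h3 : z * (t * x) * z⁻¹ = z * (x * t) * z⁻¹ := by
        calc z * (t * x) * z⁻¹ = z * t * z⁻¹ * (z * x * z⁻¹) := by group
          _ = x * (z * t * z⁻¹) := by rw [hx', ht]
          _ = z * x * z⁻¹ * (z * t * z⁻¹) := by rw [hx']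
          _ = z * (x * t) * z⁻¹ := by group
      exact mul_left_cancel (mul_right_cancel h3)
  let L : Subgroup G := Subgroup.zpowers z ⊔ D
  have hzL : z ∈ L := Subgroup.mem_sup_left (Subgroup.mem_zpowers z)
  have hcomm : z * (h⁻¹ * z * h) ∈ D := by
    refine ⟨?_, ?_⟩
    · rw [show z * (h⁻¹ * z * h) = z * h⁻¹ * z * h by group]
      refine H.mul_mem ?_ hh
      have := (Subgroup.mem_normalizer_iff.1 hzH h⁻¹).1 (H.inv_mem hh)
      rwa [inv_self hz] at this
    · have h1 : Commute (h⁻¹ * z * h) x := by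
        have h2 := hyz.symm.map (MulAut.conj h⁻¹).toMonoidHom
        simpa [← hconj, mul_assoc] using h2
      exact CfsgLib.Involutions.mem_centralizer_singleton.2 (hxz.symm.mul_left h1).eq
  have hgL : h⁻¹ * z * h⁻¹⁻¹ ∈ L := by
    rw [inv_inv, show h⁻¹ * z * h = z * (z * (h⁻¹ * z * h)) from (mul_self_cancel hz _).symm]
    exact mul_mem hzL (Subgroup.mem_sup_right hcomm)
  obtain ⟨l, hl, hlz⟩ := CfsgLib.TwoGroupTricks.exists_mem_conj_eq (p := 2) (orderOf_pow_two hz)
    hz.2 hzL hgL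
  have hnorm : Subgroup.zpowers z ≤ Subgroup.normalizer (D : Set G) := Subgroup.zpowers_le.2 hzN
  have hl' : l ∈ ((L : Subgroup G) : Set G) := hl
  rw [Subgroup.coe_mul_of_left_le_normalizer_right _ _ hnorm] at hl'
  obtain ⟨w, hw, k, hk, rfl⟩ := hl'
  obtain ⟨i, rfl⟩ := Subgroup.mem_zpowers_iff.1 hw
  refine ⟨h * k⁻¹, H.mul_mem hh (H.inv_mem hk.1), ?_, ?_⟩
  · have h5 : Commute (z ^ i * k * h⁻¹) z := mul_inv_eq_iff_eq_mul.1 hlz
    have h6 : Commute (k * h⁻¹) z := by
      have := ((Commute.self_zpow z i).symm.inv_left).mul_left h5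
      rwa [show (z ^ i)⁻¹ * (z ^ i * k * h⁻¹) = k * h⁻¹ by group] at this
    simpa using h6.inv_left
  · have h7 := CfsgLib.Involutions.mem_centralizer_singleton.1 (D.inv_mem hk).2
    rw [mul_inv_rev, inv_inv, mul_assoc h, h7]
    rw [← hconj]; group

end CfsgLib.TwoFusion
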