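/-
Consequences of the Z* theorem for isolated involutions: invariant Sylow subgroups, centrality
modulo the odd core. The Z* theorem enters as a hypothesis.
-/
import Cfsg.Prelude.Def_CaseTheorems
import Cfsg.Agent.Lib.TwoFusion.IsolatedInvolution
import Cfsg.Agent.Lib.CoprimeAction.Sylow

namespace CfsgLib.TwoFusion

open Cfsg

universe u

/-- The statement of the Z* theorem for one universe. -/
def ZStarStatement : Prop :=
  ∀ (H : Type u) [Group H] [Finite H] (P : Sylow 2 H) (t : H), orderOf t = 2 → t ∈ P →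
    (∀ g : H, g * t * g⁻¹ ∈ P → g * t * g⁻¹ = t) →
    ∃ N : Subgroup H, N.Normal ∧ Odd (Nat.card N) ∧ ∀ g : H, (t * g * t⁻¹ * g⁻¹) ∈ N

variable {G : Type u} [Group G] {z : G}

/-- An isolated involution is central modulo a normal subgroup of odd order. -/
theorem exists_odd_normal [Finite G] (hZ : ZStarStatement.{u}) (hz : IsIsolatedInvolution z) :
    ∃ N : Subgroup G, N.Normal ∧ Odd (Nat.card N) ∧ ∀ g : G, z * g * z⁻¹ * g⁻¹ ∈ N := by
  have : Fact (Nat.Prime 2) := ⟨Nat.prime_two⟩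
  obtain ⟨P, hP⟩ := (CfsgLib.TwoGroupTricks.isPGroup_zpowers (p := 2)
    (orderOf_pow_two hz)).exists_le_sylow
  exact hZ G P z hz.1 (hP (Subgroup.mem_zpowers z)) fun g hg =>
    CfsgLib.TwoGroupTricks.conj_eq_of_mem hz.2 P.2 (hP (Subgroup.mem_zpowers z)) hg

/-- An isolated involution is central modulo the odd core. -/
theorem commutator_mem_oddCore [Finite G] (hZ : ZStarStatement.{u}) (hz : IsIsolatedInvolution z)
    (g : G) : z * g * z⁻¹ * g⁻¹ ∈ oddCore G := by
  obtain ⟨N, hN, hodd, hc⟩ := exists_odd_normal hZ hz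
  exact (le_sSup (show N ∈ _ from ⟨hN, Nat.coprime_two_right.2 hodd⟩) : N ≤ oddCore G) (hc g)

/-- A maximal `z`-invariant `p`-subgroup is a Sylow subgroup. -/
theorem exists_sylow_of_maximal [Finite G] (hZ : ZStarStatement.{u}) (hz : IsIsolatedInvolution z)
    {p : ℕ} [Fact p.Prime] (Q : Subgroup G) (hQ : IsPGroup p Q)
    (hzQ : z ∈ Subgroup.normalizer (Q : Set G))
    (hmax : ∀ R : Subgroup G, IsPGroup p R → z ∈ Subgroup.normalizer (R : Set G) → Q ≤ R → R = Q) :
    ∃ P : Sylow p G, (P : Subgroup G) = Q := by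
  obtain ⟨P, hQP⟩ := hQ.exists_le_sylow
  refine ⟨P, ?_⟩
  rcases eq_or_ne p 2 with rfl | hp2
  · have hzp : IsPGroup 2 (Subgroup.zpowers z) :=
      CfsgLib.TwoGroupTricks.isPGroup_zpowers (orderOf_pow_two hz)
    have h1 := hmax (Subgroup.zpowers z ⊔ Q)
      (hzp.to_sup_of_normal_right' hQ (Subgroup.zpowers_le.2 hzQ))
      (Subgroup.le_normalizer (Subgroup.mem_sup_left (Subgroup.mem_zpowers z))) le_sup_right
    have hzQ' : z ∈ Q := h1 ▸ Subgroup.mem_sup_left (Subgroup.mem_zpowers z)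
    exact hmax P P.2 (Subgroup.le_normalizer (hQP hzQ')) hQP
  have hpodd : ¬ 2 ∣ p := fun h => hp2
    ((Nat.prime_dvd_prime_iff_eq Nat.prime_two (Fact.out : p.Prime)).1 h).symm
  set X := Subgroup.normalizer (Q : Set G) with hX
  set z' : X := ⟨z, hzQ⟩ with hz'
  have hzi : IsIsolatedInvolution z' := by
    refine ⟨by rw [hz', Subgroup.orderOf_mk, hz.1], fun g hg => Subtype.ext ?_⟩
    exact hz.2 g (congrArg Subtype.val hg.eq)
  obtain ⟨N, hN, hNodd, hNc⟩ := exists_odd_normal hZ hzi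
  obtain ⟨R⟩ := (inferInstance : Nonempty (Sylow p X))
  set M : Subgroup X := (R : Subgroup X) ⊔ N with hM
  have hzM : Subgroup.zpowers z' ≤ Subgroup.normalizer (M : Set X) := by
    rw [Subgroup.zpowers_le]
    have h1 : ∀ t ∈ M, z' * t * z'⁻¹ ∈ M := fun t ht => by
      have h2 := M.mul_mem (Subgroup.mem_sup_right (S := (R : Subgroup X)) (hNc t)) ht
      rwa [inv_mul_cancel_right] at h2
    refine Subgroup.mem_normalizer_iff.2 fun t => ⟨h1 t, fun ht => ?_⟩
    have h2 := h1 _ ht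
    rwa [inv_self hzi, show z' * (z' * t * z') * z' = (z' * z') * t * (z' * z') by group,
      mul_self hzi, one_mul, mul_one] at h2
  have hcop : (Nat.card (Subgroup.zpowers z')).Coprime (Nat.card M) := by
    rw [Nat.card_zpowers, hzi.1, Nat.coprime_two_left, ← Nat.not_even_iff_odd, even_iff_two_dvd]
    intro h2
    have : Fact (Nat.Prime 2) := ⟨Nat.prime_two⟩
    obtain ⟨u, hu⟩ := exists_prime_orderOf_dvd_card' (G := M) 2 h2
    have hu' : orderOf (u : X) = 2 := by rw [Subgroup.orderOf_coe, hu]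
    obtain ⟨r, hr, k, hk, hrk⟩ := Subgroup.mem_sup_of_normal_right.1 u.2
    have huN : (u : X) ∈ N := by
      rw [← QuotientGroup.eq_one_iff, ← orderOf_eq_one_iff]
      have hd1 : orderOf ((u : X) : X ⧸ N) ∣ 2 := hu' ▸ orderOf_map_dvd (QuotientGroup.mk' N) _
      have hd2 : orderOf ((u : X) : X ⧸ N) ∣ orderOf r := by
        rw [← hrk, QuotientGroup.mk_mul, (QuotientGroup.eq_one_iff k).2 hk, mul_one]
        exact orderOf_map_dvd (QuotientGroup.mk' N) r
      obtain ⟨i, hi⟩ := IsPGroup.iff_orderOf.1 R.2 ⟨r, hr⟩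
      rw [Subgroup.orderOf_mk] at hi
      rw [hi] at hd2
      exact Nat.eq_one_of_dvd_coprimes
        (Nat.Coprime.pow_right i (Nat.prime_two.coprime_iff_not_dvd.2 hpodd)) hd1 hd2
    have h3 : 2 ∣ Nat.card N := hu' ▸ Subgroup.orderOf_dvd_natCard N huN
    exact (Nat.not_even_iff_odd.2 hNodd) (even_iff_two_dvd.2 h3)
  obtain ⟨P₁, hP₁⟩ := CfsgLib.CoprimeAction.exists_invariant_sylow hzM hcop
    (Or.inl (CfsgLib.CoprimeAction.isSolvable_zpowers z')) p
  set R' : Subgroup G := ((P₁ : Subgroup M).map M.subtype).map X.subtype with hR'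
  have hQX : Q ≤ X := Subgroup.le_normalizer
  have hQn : (Q.subgroupOf X).Normal := Subgroup.normal_subgroupOf_of_le_normalizer le_rfl
  have hQp : IsPGroup p (Q.subgroupOf X) := hQ.comap_of_injective X.subtype X.subtype_injective
  have hQM : Q.subgroupOf X ≤ M := (IsPGroup.le_sylow_of_normal hQp R).trans le_sup_left
  have hQP₁ : (Q.subgroupOf X).subgroupOf M ≤ (P₁ : Subgroup M) :=
    IsPGroup.le_sylow_of_normal (hQp.comap_of_injective M.subtype M.subtype_injective) P₁
  have hQR' : Q ≤ R' := fun t ht =>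
    ⟨⟨t, hQX ht⟩, ⟨⟨⟨t, hQX ht⟩, hQM ht⟩, hQP₁ ht, rfl⟩, rfl⟩
  have hzR' : z ∈ Subgroup.normalizer (R' : Set G) :=
    Subgroup.le_normalizer_map X.subtype ⟨z', hP₁ (Subgroup.mem_zpowers z'), rfl⟩
  have hRQ := hmax R' ((P₁.2.map M.subtype).map X.subtype) hzR' hQR'
  -- the Sylow subgroups of `X` have the order of `Q`
  have hle : Nat.card R ≤ Nat.card Q := by
    have h1 : Nat.card ((R : Subgroup X).subgroupOf M) ∣ Nat.card P₁ := by
      obtain ⟨l, hl⟩ := (R.2.comap_of_injective M.subtype M.subtype_injective).exists_card_eq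
      rw [show (R : Subgroup X).subgroupOf M = (R : Subgroup X).comap M.subtype from rfl, hl]
      exact Sylow.pow_dvd_card_of_pow_dvd_card P₁ (hl ▸ Subgroup.card_subgroup_dvd_card _)
    rw [Nat.card_congr (Subgroup.subgroupOfEquivOfLe (le_sup_left : (R : Subgroup X) ≤ M)).toEquiv] at h1
    rw [← hRQ, hR', Subgroup.card_map_of_injective X.subtype_injective,
      Subgroup.card_map_of_injective M.subtype_injective]
    exact Nat.le_of_dvd Nat.card_pos h1
  by_contra hne
  have hlt : Q < P := lt_of_le_of_ne hQP (Ne.symm hne)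
  have := P.2.isNilpotent
  obtain ⟨t, ht, htQ⟩ := SetLike.exists_of_lt (Group.normalizerCondition_of_isNilpotent
    (G := (P : Subgroup G)) (Q.subgroupOf (P : Subgroup G))
    (lt_top_iff_ne_top.2 fun h => hlt.not_ge (Subgroup.subgroupOf_eq_top.1 h)))
  rw [← Subgroup.subgroupOf_normalizer_eq hQP] at ht
  set D : Subgroup G := (P : Subgroup G) ⊓ X with hD
  have hQD : Q < D := lt_of_le_of_ne (le_inf hQP hQX) fun h => htQ (h ▸ ⟨t.2, ht⟩ : (t : G) ∈ Q)
  have hDp : IsPGroup p (D.subgroupOf X) :=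
    (P.2.to_le inf_le_left).comap_of_injective X.subtype X.subtype_injective
  obtain ⟨R₂, hR₂⟩ := hDp.exists_le_sylow
  have h5 : Nat.card D ≤ Nat.card R := by
    rw [← Nat.card_congr (Subgroup.subgroupOfEquivOfLe (inf_le_right : D ≤ X)).toEquiv,
      Nat.card_congr (R.equiv R₂).toEquiv]
    exact Subgroup.card_le_of_le hR₂
  exact hQD.ne (Subgroup.eq_of_le_of_card_ge hQD.le (h5.trans hle))

end CfsgLib.TwoFusion
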