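/-
The counting of involutions of a group with a strongly embedded subgroup `H`, on the cosets of `H`:
every involution fixes exactly one point, all involutions are conjugate, and each ordered pair of
distinct points is swapped by exactly as many involutions as fix a point.
-/
import Mathlib
import Cfsg.Prelude.Def_Involutions
import Cfsg.Agent.Lib.Involutions.Basic

set_option autoImplicit false

namespace CfsgLib.TwoFusion

open CfsgLib.Involutions

variable {G : Type*} [Group G] [Finite G] {H : Subgroup G}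

/-- The involutions fixing a point. -/
def fixingInvolutions (H : Subgroup G) (x : G ⧸ H) : Set G := {t | orderOf t = 2 ∧ t • x = x}

/-- The involutions carrying one point to another. -/
def swappingInvolutions (H : Subgroup G) (x y : G ⧸ H) : Set G := {t | orderOf t = 2 ∧ t • x = y}

omit [Finite G] in
theorem smul_mk_eq_iff (g a : G) :
    g • (QuotientGroup.mk a : G ⧸ H) = QuotientGroup.mk a ↔ a⁻¹ * g * a ∈ H := by
  rw [eq_comm, MulAction.Quotient.smul_mk, QuotientGroup.eq]
  simp [mul_assoc]

omit [Finite G] in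
theorem smul_swap {t : G} (ht : orderOf t = 2) {x y : G ⧸ H} (h : t • x = y) : t • y = x := by
  rw [← h, ← mul_smul, mul_self_eq_one ht, one_smul]

omit [Finite G] in
theorem smul_conj_eq (g t : G) {x : G ⧸ H} (h : t • x = x) :
    (g * t * g⁻¹) • g • x = g • x := by
  rw [← mul_smul, inv_mul_cancel_right, mul_smul, h]

/-- An involution fixes at most one point. -/
theorem fix_unique (hH : Cfsg.IsStronglyEmbedded H) {t : G} (ht : orderOf t = 2) {x y : G ⧸ H}
    (hx : t • x = x) (hy : t • y = y) : x = y := by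
  obtain ⟨a, rfl⟩ := QuotientGroup.mk_surjective x
  obtain ⟨b, rfl⟩ := QuotientGroup.mk_surjective y
  rw [smul_mk_eq_iff] at hx hy
  rw [QuotientGroup.eq]
  by_contra hab
  refine (Nat.not_even_iff_odd.mpr (hH.2.2 _ hab)) ?_
  have hmem : a⁻¹ * t * a ∈ H ⊓ H.map (MulAut.conj (a⁻¹ * b)).toMonoidHom :=
    ⟨hx, b⁻¹ * t * b, hy, by simp [mul_assoc]⟩
  have ho : orderOf (a⁻¹ * t * a) = 2 := by
    rw [show a⁻¹ * t * a = a⁻¹ * t * a⁻¹⁻¹ by rw [inv_inv], orderOf_conj, ht]
  rw [even_iff_two_dvd, ← ho]
  exact Subgroup.orderOf_dvd_natCard _ hmem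

/-- Involutions with distinct fixed points have a product of odd order. -/
theorem odd_orderOf_mul (hH : Cfsg.IsStronglyEmbedded H) {a b : G} (ha : orderOf a = 2)
    (hb : orderOf b = 2) {x : G ⧸ H} (hax : a • x = x) (hbx : b • x ≠ x) :
    Odd (orderOf (a * b)) := by
  rw [← Nat.not_even_iff_odd]
  intro heven
  set z := (a * b) ^ (orderOf (a * b) / 2)
  have hz : orderOf z = 2 := orderOf_half heven (orderOf_pos _).ne'
  have hza : Commute z a := commute_half_left ha hb heven
  have hzb : Commute z b := commute_half_right ha hb heven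
  have hzx : z • x = x := by
    refine fix_unique hH ha ?_ hax
    rw [← mul_smul, ← hza.eq, mul_smul, hax]
  refine hbx (fix_unique hH hz ?_ hzx)
  rw [← mul_smul, hzb.eq, mul_smul, hzx]

theorem exists_involution_mem (hH : Cfsg.IsStronglyEmbedded H) : ∃ a ∈ H, orderOf a = 2 := by
  haveI : Fact (Nat.Prime 2) := ⟨Nat.prime_two⟩
  obtain ⟨a, ha⟩ := exists_prime_orderOf_dvd_card' (G := H) 2 (even_iff_two_dvd.mp hH.2.1)
  exact ⟨a, a.2, by rw [Subgroup.orderOf_coe, ha]⟩

/-- Every point is fixed by an involution. -/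
theorem fixingInvolutions_nonempty (hH : Cfsg.IsStronglyEmbedded H) (x : G ⧸ H) :
    (fixingInvolutions H x).Nonempty := by
  obtain ⟨a, haH, ha⟩ := exists_involution_mem hH
  obtain ⟨g, rfl⟩ := QuotientGroup.mk_surjective x
  exact ⟨g * a * g⁻¹, by rw [orderOf_conj, ha], by
    rw [smul_mk_eq_iff]; simpa [mul_assoc] using haH⟩

/-- Every involution fixes a point. -/
theorem exists_fixed_point (hH : Cfsg.IsStronglyEmbedded H) {b : G} (hb : orderOf b = 2) :
    ∃ y : G ⧸ H, b • y = y := by
  set x : G ⧸ H := QuotientGroup.mk 1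
  by_cases h : b • x = x
  · exact ⟨x, h⟩
  obtain ⟨a, ha, hax⟩ := fixingInvolutions_nonempty hH x
  obtain ⟨d, -, hd⟩ := exists_conj_eq_of_odd ha hb (odd_orderOf_mul hH ha hb hax h)
  exact ⟨d • x, hd ▸ smul_conj_eq d a hax⟩

/-- All involutions are conjugate. -/
theorem isConj_involutions (hH : Cfsg.IsStronglyEmbedded H) {a b : G} (ha : orderOf a = 2)
    (hb : orderOf b = 2) : IsConj a b := by
  obtain ⟨x, hx⟩ := exists_fixed_point hH ha
  by_cases h : b • x = x
  · obtain ⟨g, hg⟩ : ∃ g : G, g • x ≠ x := by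
      by_contra hall
      push Not at hall
      apply hH.1
      rw [Subgroup.eq_top_iff']
      intro g
      obtain ⟨c, rfl⟩ := QuotientGroup.mk_surjective x
      have := hall (c * g * c⁻¹)
      rw [smul_mk_eq_iff] at this
      simpa [mul_assoc] using this
    obtain ⟨c, hc, hcy⟩ := fixingInvolutions_nonempty hH (g • x)
    have hcx : c • x ≠ x := fun h' => hg (fix_unique hH hc hcy h')
    exact (isConj_of_odd ha hc (odd_orderOf_mul hH ha hc hx hcx)).trans
      (isConj_of_odd hb hc (odd_orderOf_mul hH hb hc h hcx)).symm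
  · exact isConj_of_odd ha hb (odd_orderOf_mul hH ha hb hx h)

omit [Finite G] in
theorem card_fixingInvolutions_smul (g : G) (x : G ⧸ H) :
    Nat.card (fixingInvolutions H (g • x)) = Nat.card (fixingInvolutions H x) := by
  refine Nat.card_congr ⟨fun t => ⟨g⁻¹ * t * g, ?_, ?_⟩, fun t => ⟨g * t * g⁻¹, ?_, ?_⟩, ?_, ?_⟩
  · rw [show g⁻¹ * (t : G) * g = g⁻¹ * (t : G) * g⁻¹⁻¹ by rw [inv_inv], orderOf_conj, t.2.1]
  · rw [mul_smul, mul_smul, t.2.2, inv_smul_smul]
  · rw [orderOf_conj, t.2.1]
  · exact smul_conj_eq g t t.2.2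
  · intro t; simp [mul_assoc]
  · intro t; simp [mul_assoc]

omit [Finite G] in
theorem card_fixingInvolutions_eq (x y : G ⧸ H) :
    Nat.card (fixingInvolutions H x) = Nat.card (fixingInvolutions H y) := by
  obtain ⟨g, rfl⟩ := MulAction.exists_smul_eq G x y
  exact (card_fixingInvolutions_smul g x).symm

/-- For distinct points `x`, `y` and involutions fixing them there is an involution exchanging the
two involutions and the two points. -/
theorem exists_swap (hH : Cfsg.IsStronglyEmbedded H) {x y : G ⧸ H} (hxy : x ≠ y) {a b : G}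
    (ha : a ∈ fixingInvolutions H x) (hb : b ∈ fixingInvolutions H y) :
    ∃ r ∈ swappingInvolutions H x y, r * a * r⁻¹ = b := by
  obtain ⟨ha, hax⟩ := ha
  obtain ⟨hb, hby⟩ := hb
  obtain ⟨m, hm⟩ := odd_orderOf_mul hH ha hb hax fun h => hxy (fix_unique hH hb h hby)
  set d := (a * b) ^ (m : ℤ) with hd
  have hdab : d * a * d⁻¹ = b := by
    rw [hd, conj_left_by_zpow ha hb]
    conv_rhs => rw [right_eq_zpow_mul ha hb]
    congr 1
    rw [← orderOf_dvd_sub_iff_zpow_eq_zpow, hm]
    simp
  have hrab : (d * a) * a * (d * a)⁻¹ = b := by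
    rw [mul_assoc d a a, mul_self_eq_one ha, mul_one, mul_inv_rev, inv_eq_self ha, ← mul_assoc, hdab]
  have hrx : (d * a) • x = y := by
    refine fix_unique hH hb ?_ hby
    conv_lhs => arg 1; rw [← hrab]
    exact smul_conj_eq (d * a) a hax
  refine ⟨d * a, ⟨?_, hrx⟩, hrab⟩
  refine orderOf_eq_two_iff.mpr ⟨?_, fun h => hxy ?_⟩
  · rw [hd, zpow_mul_mul_zpow_mul ha hb, sub_self, zpow_zero]
  · rw [← hrx, h, one_smul]

/-- The stabiliser of two points is transitive on the involutions fixing the first. -/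
theorem exists_conj_in_two_point_stabilizer (hH : Cfsg.IsStronglyEmbedded H) {x : G ⧸ H}
    {u : G} (hu : orderOf u = 2) (hux : u • x ≠ x) {s t : G}
    (hs : s ∈ fixingInvolutions H x) (ht : t ∈ fixingInvolutions H x) :
    ∃ d : G, d • x = x ∧ d • u • x = u • x ∧ d * s * d⁻¹ = t := by
  have hb : u * t * u⁻¹ ∈ fixingInvolutions H (u • x) :=
    ⟨by rw [orderOf_conj, ht.1], smul_conj_eq u t ht.2⟩
  obtain ⟨r, ⟨hr, hrx⟩, hrst⟩ := exists_swap hH (Ne.symm hux) hs hb
  refine ⟨u * r, ?_, ?_, ?_⟩
  · rw [mul_smul, hrx, smul_swap hu rfl]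
  · rw [mul_smul, smul_swap hr hrx]
  · rw [mul_inv_rev, inv_eq_self hu,
      show u * r * s * (r⁻¹ * u) = u * (r * s * r⁻¹) * u by group, hrst, inv_eq_self hu]
    calc u * (u * t * u) * u = u * u * t * (u * u) := by group
      _ = t := by rw [mul_self_eq_one hu, one_mul, mul_one]

/-- Each ordered pair of distinct points has as many swapping involutions as a point has fixing
involutions. -/
theorem card_swappingInvolutions (hH : Cfsg.IsStronglyEmbedded H) {x y : G ⧸ H} (hxy : x ≠ y) :
    Nat.card (swappingInvolutions H x y) = Nat.card (fixingInvolutions H x) := by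
  classical
  haveI := Fintype.ofFinite (G ⧸ H)
  set m := Nat.card (fixingInvolutions H x)
  have hmpos : 0 < m := by
    haveI := (fixingInvolutions_nonempty hH x).to_subtype
    exact Nat.card_pos
  have hlow : ∀ z : G ⧸ H, m ≤ Nat.card (swappingInvolutions H x z) := by
    intro z
    by_cases hz : z = x
    · subst hz
      exact le_rfl
    choose r hr hr' using fun p : fixingInvolutions H x × fixingInvolutions H z =>
      exists_swap hH (Ne.symm hz) p.1.2 p.2.2
    have hinj : Function.Injective (fun p : fixingInvolutions H x × fixingInvolutions H z =>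
        ((⟨r p, hr p⟩ : swappingInvolutions H x z), p.1)) := by
      intro p q h
      simp only [Prod.mk.injEq, Subtype.mk.injEq] at h
      refine Prod.ext h.2 (Subtype.ext ?_)
      rw [← hr' p, ← hr' q, h.1, h.2]
    have h1 := Nat.card_le_card_of_injective _ hinj
    rw [Nat.card_prod, Nat.card_prod, card_fixingInvolutions_eq z x] at h1
    exact Nat.le_of_mul_le_mul_right h1 hmpos
  have hsum : ∑ z : G ⧸ H, Nat.card (swappingInvolutions H x z) = ∑ _z : G ⧸ H, m := by
    let e1 : {t : G // orderOf t = 2} ≃ Σ z : G ⧸ H, swappingInvolutions H x z :=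
      { toFun := fun t => ⟨(t : G) • x, t, t.2, rfl⟩
        invFun := fun p => ⟨p.2, p.2.2.1⟩
        left_inv := fun t => rfl
        right_inv := by
          rintro ⟨z, t, ht, rfl⟩; rfl }
    let e2 : (Σ z : G ⧸ H, fixingInvolutions H z) ≃ {t : G // orderOf t = 2} :=
      Equiv.ofBijective (fun p => ⟨p.2, p.2.2.1⟩) ⟨by
        rintro ⟨z, t, ht, htz⟩ ⟨w, s, hs, hsw⟩ h
        obtain rfl : t = s := congrArg Subtype.val h
        obtain rfl := fix_unique hH ht htz hsw
        rfl, fun t => ⟨⟨_, t, t.2, (exists_fixed_point hH t.2).choose_spec⟩, rfl⟩⟩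
    rw [← Nat.card_sigma, ← Nat.card_congr (e2.trans e1), Nat.card_sigma]
    exact Finset.sum_congr rfl fun z _ => card_fixingInvolutions_eq z x
  exact le_antisymm (le_of_not_gt fun hlt => hsum.not_gt
    (Finset.sum_lt_sum (fun z _ => hlow z) ⟨y, Finset.mem_univ y, hlt⟩)) (hlow y)

end CfsgLib.TwoFusion
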