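/-
Groups with a nonnormal noncyclic Sylow 2-subgroup in which every involution centraliser is
elementary abelian: the action on the cosets of the normalizer of the Sylow subgroup is sharply
triply transitive.
-/
import Mathlib
import Cfsg.Agent.S1226
import Cfsg.Agent.Lib.TwoFusion.StrongEmbed
import Cfsg.Agent.Lib.CoprimeAction.Glauberman

set_option autoImplicit false

namespace CfsgLib.TwoFusion

open CfsgLib.Involutions

/-- The hypotheses of the characterisation of `PSL(2, 2^n)` by elementary abelian centralisers. -/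
structure ElemCentHyp {G : Type*} [Group G] (T : Sylow 2 G) : Prop where
  notCyclic : ¬ IsCyclic (T : Subgroup G)
  notNormal : ¬ (T : Subgroup G).Normal
  elem : ∀ t : G, orderOf t = 2 → IsMulCommutative (Subgroup.centralizer ({t} : Set G)) ∧
    ∀ c ∈ Subgroup.centralizer ({t} : Set G), c ^ 2 = 1

namespace ElemCentHyp

/-- The stabiliser of the point of `T` and its image under `u`. -/
def twoPoint {G : Type*} [Group G] {T : Sylow 2 G} (_E : ElemCentHyp T) (u : G) : Subgroup G :=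
  Subgroup.normalizer ((T : Subgroup G) : Set G) ⊓
    (Subgroup.normalizer ((T : Subgroup G) : Set G)).map (MulAut.conj u).toMonoidHom

variable {G : Type*} [Group G] [Finite G] {T : Sylow 2 G} (E : ElemCentHyp T)
include E

local notation "Hn" => Subgroup.normalizer ((T : Subgroup G) : Set G)
local notation "pt" => (QuotientGroup.mk 1 : G ⧸ Hn)

theorem stronglyEmbedded : Cfsg.IsStronglyEmbedded Hn :=
  Cfsg.Agent.S1226.result T E.notCyclic E.notNormal E.elem

theorem nontrivial : Nontrivial (T : Subgroup G) := by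
  by_contra h
  rw [not_nontrivial_iff_subsingleton] at h
  exact E.notCyclic inferInstance

theorem exists_involution_le : ∃ z : G, orderOf z = 2 ∧ z ∈ (T : Subgroup G) ∧
    (T : Subgroup G) ≤ Subgroup.centralizer ({z} : Set G) := by
  haveI : Fact (Nat.Prime 2) := ⟨Nat.prime_two⟩
  have hT : IsPGroup 2 (T : Subgroup G) := T.2
  haveI := E.nontrivial
  haveI := hT.center_nontrivial
  obtain ⟨z, hz⟩ := exists_prime_orderOf_dvd_card' (G := Subgroup.center (T : Subgroup G)) 2
    ((hT.to_subgroup _).card_eq_or_dvd.resolve_left Finite.one_lt_card.ne')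
  refine ⟨((z : (T : Subgroup G)) : G), by rw [Subgroup.orderOf_coe, Subgroup.orderOf_coe, hz],
    SetLike.coe_mem _, fun t ht => ?_⟩
  rw [Subgroup.mem_centralizer_singleton_iff]
  exact congrArg Subtype.val (Subgroup.mem_center_iff.mp z.2 ⟨t, ht⟩)

theorem comm {a b : G} (ha : a ∈ (T : Subgroup G)) (hb : b ∈ (T : Subgroup G)) : a * b = b * a := by
  obtain ⟨z, hz, -, hle⟩ := E.exists_involution_le
  haveI := (E.elem z hz).1
  exact congrArg Subtype.val
    (mul_comm' (⟨a, hle ha⟩ : Subgroup.centralizer ({z} : Set G)) ⟨b, hle hb⟩)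

theorem sq_eq_one {a : G} (ha : a ∈ (T : Subgroup G)) : a ^ 2 = 1 := by
  obtain ⟨z, hz, -, hle⟩ := E.exists_involution_le
  exact (E.elem z hz).2 a (hle ha)

theorem orderOf_eq_two {a : G} (ha : a ∈ (T : Subgroup G)) (h1 : a ≠ 1) : orderOf a = 2 :=
  orderOf_eq_prime (E.sq_eq_one ha) h1

theorem centralizer_eq {t : G} (ht : t ∈ (T : Subgroup G)) (h1 : t ≠ 1) :
    Subgroup.centralizer ({t} : Set G) = (T : Subgroup G) :=
  T.3 (fun c => ⟨1, by
    rw [pow_one]; exact Subtype.ext ((E.elem t (E.orderOf_eq_two ht h1)).2 c c.2)⟩)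
    (fun _ ha => Subgroup.mem_centralizer_singleton_iff.mpr (E.comm ha ht))

omit [Finite G] E in
theorem le_normalizer_self : (T : Subgroup G) ≤ Hn := Subgroup.le_normalizer

omit E in
theorem mem_of_involution {s : G} (hs : orderOf s = 2) (hsN : s ∈ Hn) : s ∈ (T : Subgroup G) := by
  haveI : Fact (Nat.Prime 2) := ⟨Nat.prime_two⟩
  have hp : IsPGroup 2 (Subgroup.zpowers s) := IsPGroup.of_card (n := 1) (by
    rw [Nat.card_zpowers, hs, pow_one])
  have hsup : IsPGroup 2 (Subgroup.zpowers s ⊔ (T : Subgroup G) : Subgroup G) :=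
    hp.to_sup_of_normal_right' T.2 (Subgroup.zpowers_le.mpr hsN)
  rw [← T.3 hsup le_sup_right]
  exact Subgroup.mem_sup_left (Subgroup.mem_zpowers s)

omit [Finite G] E in
theorem smul_pt_eq_iff {g : G} : g • pt = pt ↔ g ∈ Hn := by
  rw [smul_mk_eq_iff]; simp

theorem mem_fixing_iff {t : G} :
    t ∈ fixingInvolutions Hn pt ↔ t ∈ (T : Subgroup G) ∧ t ≠ 1 := by
  refine ⟨fun ⟨ht, htx⟩ => ⟨mem_of_involution ht (smul_pt_eq_iff.mp htx), ne_one ht⟩,
    fun ⟨ht, h1⟩ => ⟨E.orderOf_eq_two ht h1, smul_pt_eq_iff.mpr (le_normalizer_self ht)⟩⟩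

theorem card_fixing : Nat.card (fixingInvolutions Hn pt) = Nat.card (T : Subgroup G) - 1 := by
  have h : fixingInvolutions Hn pt = ((T : Subgroup G) : Set G) \ {1} :=
    Set.ext fun t => E.mem_fixing_iff
  rw [h, Nat.card_coe_set_eq, Set.ncard_diff (by simp [one_mem]) (Set.toFinite _),
    Set.ncard_singleton]
  rfl

/-- The Sylow subgroup acts semiregularly away from its point. -/
theorem eq_one_of_fix {t : G} (ht : t ∈ (T : Subgroup G)) {y : G ⧸ Hn} (hy : y ≠ pt)
    (hty : t • y = y) : t = 1 := by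
  by_contra h1
  exact hy (fix_unique E.stronglyEmbedded (E.orderOf_eq_two ht h1) hty
    (smul_pt_eq_iff.mpr (le_normalizer_self ht)))

theorem eq_of_smul_eq {a b : G} (ha : a ∈ (T : Subgroup G)) (hb : b ∈ (T : Subgroup G))
    {y : G ⧸ Hn} (hy : y ≠ pt) (h : a • y = b • y) : a = b :=
  (inv_mul_eq_one.mp (E.eq_one_of_fix (mul_mem (inv_mem hb) ha) hy
    (by rw [mul_smul, h, inv_smul_smul]))).symm

theorem mem_twoPoint {u d : G} : d ∈ E.twoPoint u ↔ d • pt = pt ∧ d • u • pt = u • pt := by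
  unfold twoPoint
  rw [Subgroup.mem_inf, smul_pt_eq_iff, MulAction.Quotient.smul_mk, smul_eq_mul, mul_one,
    smul_mk_eq_iff, Subgroup.mem_map_equiv, MulAut.conj_symm_apply]

section

variable {u : G} (hu : orderOf u = 2) (hux : u • (QuotientGroup.mk (1 : G) : G ⧸ Subgroup.normalizer ((T : Subgroup G) : Set G)) ≠ QuotientGroup.mk (1 : G))
include hux

theorem twoPoint_le : E.twoPoint u ≤ Hn := inf_le_left

theorem inter_eq_one {d : G} (hd : d ∈ E.twoPoint u) (hdT : d ∈ (T : Subgroup G)) : d = 1 :=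
  E.eq_one_of_fix hdT hux (E.mem_twoPoint.mp hd).2

theorem conj_inj {a d d' : G} (ha : a ∈ (T : Subgroup G)) (ha1 : a ≠ 1) (hd : d ∈ E.twoPoint u)
    (hd' : d' ∈ E.twoPoint u) (h : d * a * d⁻¹ = d' * a * d'⁻¹) : d = d' := by
  have hmem : d'⁻¹ * d ∈ Subgroup.centralizer ({a} : Set G) := by
    rw [Subgroup.mem_centralizer_singleton_iff]
    calc d'⁻¹ * d * a = d'⁻¹ * (d * a * d⁻¹) * d := by group
      _ = d'⁻¹ * (d' * a * d'⁻¹) * d := by rw [h]
      _ = _ := by group
  rw [E.centralizer_eq ha ha1] at hmem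
  exact (inv_mul_eq_one.mp (E.inter_eq_one hux (mul_mem (inv_mem hd') hd) hmem)).symm

theorem card_twoPoint_le : Nat.card (E.twoPoint u) ≤ Nat.card (fixingInvolutions Hn pt) := by
  obtain ⟨a, ha⟩ := fixingInvolutions_nonempty E.stronglyEmbedded pt
  obtain ⟨haT, ha1⟩ := E.mem_fixing_iff.mp ha
  refine Nat.card_le_card_of_injective (fun d : E.twoPoint u =>
    (⟨d * a * (d : G)⁻¹, by rw [orderOf_conj, ha.1], ?_⟩ : fixingInvolutions Hn pt)) ?_
  · have := smul_conj_eq (d : G) a ha.2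
    rwa [(E.mem_twoPoint.mp d.2).1] at this
  · intro d d' h
    exact Subtype.ext (E.conj_inj hux haT ha1 d.2 d'.2 (congrArg Subtype.val h))

include hu

/-- `u` inverts the two point stabiliser, whose order is `|T| - 1`. -/
theorem inverts_and_card : (∀ d ∈ E.twoPoint u, u * d * u⁻¹ = d⁻¹) ∧
    Nat.card (E.twoPoint u) = Nat.card (fixingInvolutions Hn pt) := by
  let I : Set G := {d | d ∈ E.twoPoint u ∧ u * d * u⁻¹ = d⁻¹}
  have e : Nat.card (swappingInvolutions Hn pt (u • pt)) ≤ Nat.card I := by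
    refine Nat.card_le_card_of_injective (fun r =>
      (⟨u * r, E.mem_twoPoint.mpr ⟨?_, ?_⟩, ?_⟩ : I)) ?_
    · rw [mul_smul, r.2.2, smul_swap hu rfl]
    · rw [mul_smul, smul_swap r.2.1 r.2.2]
    · rw [mul_inv_rev, inv_eq_self r.2.1, inv_eq_self hu, ← mul_assoc, mul_self_eq_one hu, one_mul]
    · intro r r' h
      exact Subtype.ext (mul_left_cancel (congrArg Subtype.val h))
  rw [card_swappingInvolutions E.stronglyEmbedded (Ne.symm hux)] at e
  have hIle : I ⊆ (E.twoPoint u : Set G) := fun d hd => hd.1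
  have hle2 := Nat.card_mono (Set.toFinite _) hIle
  have hle3 := E.card_twoPoint_le hux
  have heq : I = (E.twoPoint u : Set G) := by
    refine Set.eq_of_subset_of_ncard_le hIle ?_ (Set.toFinite _)
    rw [← Nat.card_coe_set_eq, ← Nat.card_coe_set_eq]
    exact hle3.trans e
  exact ⟨fun d hd => (heq.symm.subset hd).2, le_antisymm hle3 (e.trans hle2)⟩

/-- The two point stabiliser is transitive on the involutions of `T`. -/
theorem exists_conj {a b : G} (ha : a ∈ (T : Subgroup G)) (ha1 : a ≠ 1)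
    (hb : b ∈ (T : Subgroup G)) (hb1 : b ≠ 1) : ∃ d ∈ E.twoPoint u, d * a * d⁻¹ = b := by
  obtain ⟨d, h1, h2, h3⟩ := exists_conj_in_two_point_stabilizer E.stronglyEmbedded hu hux
    (E.mem_fixing_iff.mpr ⟨ha, ha1⟩) (E.mem_fixing_iff.mpr ⟨hb, hb1⟩)
  exact ⟨d, E.mem_twoPoint.mpr ⟨h1, h2⟩, h3⟩

theorem exists_factor {h : G} (hh : h ∈ Hn) :
    ∃ d ∈ E.twoPoint u, ∃ t ∈ (T : Subgroup G), h = d * t := by
  obtain ⟨z, hz, hzT, -⟩ := E.exists_involution_le
  have hhz : h * z * h⁻¹ ∈ (T : Subgroup G) := (Subgroup.mem_normalizer_iff.mp hh z).mp hzT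
  have hhz1 : h * z * h⁻¹ ≠ 1 := ne_one (by rw [orderOf_conj, hz])
  obtain ⟨d, hd, hdz⟩ := E.exists_conj hu hux hzT (ne_one hz) hhz hhz1
  refine ⟨d, hd, d⁻¹ * h, ?_, by group⟩
  rw [← E.centralizer_eq hzT (ne_one hz), Subgroup.mem_centralizer_singleton_iff]
  calc d⁻¹ * h * z = d⁻¹ * (h * z * h⁻¹) * h := by group
    _ = d⁻¹ * (d * z * d⁻¹) * h := by rw [hdz]
    _ = _ := by group

theorem exists_factor' {h : G} (hh : h ∈ Hn) :
    ∃ t ∈ (T : Subgroup G), ∃ d ∈ E.twoPoint u, h = t * d := by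
  obtain ⟨d, hd, t, ht, he⟩ := E.exists_factor hu hux (inv_mem hh)
  exact ⟨t⁻¹, inv_mem ht, d⁻¹, inv_mem hd, by rw [← inv_inv h, he, mul_inv_rev]⟩

theorem isComplement :
    Subgroup.IsComplement' ((E.twoPoint u).subgroupOf Hn) ((T : Subgroup G).subgroupOf Hn) := by
  refine Subgroup.isComplement'_of_disjoint_and_mul_eq_univ ?_ ?_
  · rw [Subgroup.disjoint_def]
    intro x hx hxT
    exact Subtype.ext (E.inter_eq_one hux hx hxT)
  · rw [Set.eq_univ_iff_forall]
    intro h
    obtain ⟨d, hd, t, ht, he⟩ := E.exists_factor hu hux h.2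
    exact ⟨⟨d, E.twoPoint_le hux hd⟩, hd, ⟨t, le_normalizer_self ht⟩, ht, Subtype.ext he.symm⟩

theorem card_normalizer :
    Nat.card Hn = Nat.card (T : Subgroup G) * (Nat.card (T : Subgroup G) - 1) := by
  rw [← (E.isComplement hu hux).card_mul,
    Nat.card_congr (Subgroup.subgroupOfEquivOfLe (E.twoPoint_le hux)).toEquiv,
    Nat.card_congr (Subgroup.subgroupOfEquivOfLe le_normalizer_self).toEquiv,
    (E.inverts_and_card hu hux).2, E.card_fixing, mul_comm]

end

/-- An involution inverts every element fixing a point moved by it and the image of that point. -/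
theorem inverts {r d : G} (hr : orderOf r = 2) {a : G ⧸ Hn} (hra : r • a ≠ a) (hda : d • a = a)
    (hdr : d • r • a = r • a) : r * d * r⁻¹ = d⁻¹ := by
  obtain ⟨g, hg⟩ := MulAction.exists_smul_eq G a pt
  have hga : g⁻¹ • pt = a := by rw [← hg, inv_smul_smul]
  have hv : orderOf (g * r * g⁻¹) = 2 := by rw [orderOf_conj, hr]
  have hvx : (g * r * g⁻¹) • pt ≠ pt := by
    rw [mul_smul, hga, mul_smul]
    intro h
    exact hra (smul_left_cancel g (h.trans hg.symm))
  have hd : g * d * g⁻¹ ∈ E.twoPoint (g * r * g⁻¹) := by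
    refine E.mem_twoPoint.mpr ⟨?_, ?_⟩
    · rw [mul_smul, hga, mul_smul, hda, hg]
    · rw [mul_smul (g * r), hga, mul_smul (g * d), mul_smul g r, inv_smul_smul, mul_smul, hdr]
  have := (E.inverts_and_card hv hvx).1 _ hd
  calc r * d * r⁻¹ = g⁻¹ * (g * r * g⁻¹ * (g * d * g⁻¹) * (g * r * g⁻¹)⁻¹) * g := by group
    _ = g⁻¹ * (g * d * g⁻¹)⁻¹ * g := by rw [this]
    _ = d⁻¹ := by group

section

variable {u : G} (hu : orderOf u = 2) (hux : u • (QuotientGroup.mk (1 : G) : G ⧸ Subgroup.normalizer ((T : Subgroup G) : Set G)) ≠ QuotientGroup.mk (1 : G))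
include hu hux

theorem twoPoint_ne_bot : ∃ d ∈ E.twoPoint u, d ≠ 1 := by
  haveI : Fact (Nat.Prime 2) := ⟨Nat.prime_two⟩
  by_contra! h
  have hbot : E.twoPoint u = ⊥ := (Subgroup.eq_bot_iff_forall _).mpr h
  have hc := (E.inverts_and_card hu hux).2
  rw [E.card_fixing, hbot, Subgroup.card_bot] at hc
  exact E.notCyclic (isCyclic_of_prime_card (p := 2) (by omega))

theorem eq_one_of_sq {d : G} (hd : d ∈ E.twoPoint u) (h : d ^ 2 = 1) : d = 1 := by
  by_contra h1
  exact h1 (E.inter_eq_one hux hd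
    (mem_of_involution (orderOf_eq_prime h h1) (E.twoPoint_le hux hd)))

/-- The two point stabiliser fixes exactly two points. -/
theorem fix_twoPoint {w : G ⧸ Hn} (hw : ∀ d ∈ E.twoPoint u, d • w = w) :
    w = pt ∨ w = u • pt := by
  classical
  haveI := Fintype.ofFinite (G ⧸ Hn)
  haveI : Fact (Nat.Prime 2) := ⟨Nat.prime_two⟩
  by_contra! hne
  set D := E.twoPoint u with hD
  let F : Finset (G ⧸ Hn) := Finset.univ.filter fun a => ∀ d ∈ D, d • a = a
  have hF : ∀ a, a ∈ F ↔ ∀ d ∈ D, d • a = a := fun a => by simp [F]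
  have hxF : pt ∈ F := (hF _).mpr fun d hd => (E.mem_twoPoint.mp hd).1
  have hyF : u • pt ∈ F := (hF _).mpr fun d hd => (E.mem_twoPoint.mp hd).2
  have hwF : w ∈ F := (hF _).mpr hw
  -- `u` permutes `F` without fixed points
  have hinv : ∀ d ∈ D, u * d * u⁻¹ = d⁻¹ := (E.inverts_and_card hu hux).1
  have huF : ∀ a ∈ F, u • a ∈ F := by
    intro a ha
    rw [hF] at ha ⊢
    intro d hd
    have : d * u = u * d⁻¹ := by
      rw [← hinv d hd, inv_eq_self hu]
      calc d * u = u * u * (d * u) := by rw [mul_self_eq_one hu, one_mul]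
        _ = _ := by group
    rw [← mul_smul, this, mul_smul, ha _ (inv_mem hd)]
  obtain ⟨d₀, hd₀, hd₀1⟩ := E.twoPoint_ne_bot hu hux
  have hfree : ∀ a ∈ F, u • a ≠ a := by
    intro a ha hua
    rw [hF] at ha
    obtain ⟨g, hg⟩ := MulAction.exists_smul_eq G a pt
    have hga : g⁻¹ • pt = a := by rw [← hg, inv_smul_smul]
    have fixT : ∀ s : G, orderOf s = 2 → s • a = a → g * s * g⁻¹ ∈ (T : Subgroup G) := by
      intro s hs hsa
      refine mem_of_involution (by rw [orderOf_conj, hs]) (smul_pt_eq_iff.mp ?_)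
      rw [mul_smul, hga, mul_smul, hsa, hg]
    have h1 := fixT u hu hua
    have h2 := fixT (d₀ * u * d₀⁻¹) (by rw [orderOf_conj, hu])
      (by rw [mul_smul, ha _ (inv_mem hd₀), mul_smul, hua, ha _ hd₀])
    have h3 := E.sq_eq_one (mul_mem h2 h1)
    have h4 : d₀ * u * d₀⁻¹ * u = d₀ ^ 2 := by
      have := hinv d₀⁻¹ (inv_mem hd₀)
      rw [inv_eq_self hu, inv_inv] at this
      rw [mul_assoc d₀ u, mul_assoc d₀, this, pow_two]
    rw [show g * (d₀ * u * d₀⁻¹) * g⁻¹ * (g * u * g⁻¹) = g * (d₀ * u * d₀⁻¹ * u) * g⁻¹ by group,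
      h4, conj_pow, ← pow_mul] at h3
    have h5 : (d₀ ^ 2) ^ 2 = 1 := by
      rw [← pow_mul]
      calc d₀ ^ (2 * 2) = g⁻¹ * (g * d₀ ^ (2 * 2) * g⁻¹) * g := by group
        _ = 1 := by rw [h3]; group
    exact hd₀1 (E.eq_one_of_sq hu hux hd₀
      (E.eq_one_of_sq hu hux (pow_mem hd₀ 2) h5))
  have heven : Even F.card := by
    have : ∑ _a ∈ F, (1 : ZMod 2) = 0 :=
      Finset.sum_involution (fun a _ => u • a) (fun _ _ => CharTwo.add_self_eq_zero (1 : ZMod 2)) (fun a ha _ => hfree a ha)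
        huF (fun a _ => smul_swap hu rfl)
    rw [Finset.sum_const, nsmul_one, ZMod.natCast_eq_zero_iff_even] at this
    exact this
  -- the centraliser of `D` has odd order and is transitive on `F`
  let C : Subgroup G := Subgroup.centralizer (D : Set G)
  have hodd : Odd (Nat.card C) := by
    rw [← Nat.not_even_iff_odd, even_iff_two_dvd]
    intro h2
    obtain ⟨⟨c, hc⟩, hco⟩ := exists_prime_orderOf_dvd_card' 2 h2
    rw [← Subgroup.orderOf_coe] at hco
    exact hd₀1 (E.eq_one_of_sq hu hux hd₀ ((E.elem c hco).2 d₀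
      (Subgroup.mem_centralizer_singleton_iff.mpr (Subgroup.mem_centralizer_iff.mp hc d₀ hd₀))))
  have hswap : ∀ a ∈ F, ∀ b ∈ F, a ≠ b → ∃ r : G, r • a = b ∧ ∀ d ∈ D, r * d * r⁻¹ = d⁻¹ := by
    intro a ha b hb hab
    rw [hF] at ha hb
    haveI : Nonempty (swappingInvolutions Hn a b) := by
      refine (Nat.card_pos_iff.mp ?_).1
      rw [card_swappingInvolutions E.stronglyEmbedded hab]
      haveI := (fixingInvolutions_nonempty E.stronglyEmbedded a).to_subtype
      exact Nat.card_pos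
    obtain ⟨r, hr, hra⟩ := Classical.arbitrary (swappingInvolutions Hn a b)
    exact ⟨r, hra, fun d hd => E.inverts hr (by rw [hra]; exact Ne.symm hab) (ha d hd)
      (by rw [hra]; exact hb d hd)⟩
  have hreach : ∀ a ∈ F, ∀ c ∈ F, a ≠ c → ∀ b ∈ F, c ≠ b → ∃ g ∈ C, g • a = b := by
    intro a ha c hc hac b hb hcb
    obtain ⟨r, hr, hr'⟩ := hswap a ha c hc hac
    obtain ⟨r', hr1, hr1'⟩ := hswap c hc b hb hcb
    refine ⟨r' * r, ?_, by rw [mul_smul, hr, hr1]⟩
    rw [Subgroup.mem_centralizer_iff]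
    intro d hd
    have : r' * r * d * (r' * r)⁻¹ = d := by
      calc r' * r * d * (r' * r)⁻¹ = r' * (r * d * r⁻¹) * r'⁻¹ := by group
        _ = r' * d⁻¹ * r'⁻¹ := by rw [hr' d hd]
        _ = d := by rw [hr1' _ (inv_mem hd), inv_inv]
    conv_lhs => rw [← this]
    group
  have horbit : (MulAction.orbit C pt) = (F : Set (G ⧸ Hn)) := by
    ext a
    constructor
    · rintro ⟨⟨g, hg⟩, rfl⟩
      refine (hF _).mpr fun d hd => ?_
      show d • g • pt = g • pt
      rw [← mul_smul, Subgroup.mem_centralizer_iff.mp hg d hd, mul_smul, (hF _).mp hxF d hd]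
    · intro ha
      by_cases hax : a = pt
      · exact hax ▸ MulAction.mem_orbit_self _
      by_cases hay : a = u • pt
      · obtain ⟨g, hg, hga⟩ := hreach pt hxF w hwF (Ne.symm hne.1) a ha (hay ▸ hne.2)
        exact ⟨⟨g, hg⟩, hga⟩
      · obtain ⟨g, hg, hga⟩ := hreach pt hxF (u • pt) hyF (Ne.symm hux) a ha (Ne.symm hay)
        exact ⟨⟨g, hg⟩, hga⟩
  have hdvd : F.card ∣ Nat.card C := by
    rw [← Set.ncard_coe_finset, ← horbit, ← Nat.card_coe_set_eq,
      Nat.card_congr (MulAction.orbitEquivQuotientStabilizer C pt), ← Subgroup.index_eq_card]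
    exact Subgroup.index_dvd_card _
  exact Nat.not_even_iff_odd.mpr hodd (even_iff_two_dvd.mpr ((even_iff_two_dvd.mp heven).trans hdvd))

theorem smul_conj_pt {d : G} (hd : d ∈ E.twoPoint u) (a : G) :
    d • a • u • pt = (d * a * d⁻¹) • u • pt := by
  conv_rhs => rw [mul_smul, (E.mem_twoPoint.mp (inv_mem hd)).2, mul_smul]

/-- The Sylow subgroup is transitive on the points other than its own. -/
theorem exists_translation {y : G ⧸ Hn} (hy : y ≠ pt) :
    ∃ t ∈ (T : Subgroup G), t • u • pt = y := by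
  set D := E.twoPoint u with hD
  obtain ⟨a, ha⟩ := fixingInvolutions_nonempty E.stronglyEmbedded pt
  obtain ⟨b, hb⟩ := fixingInvolutions_nonempty E.stronglyEmbedded y
  obtain ⟨v, ⟨hv, hvy⟩, -⟩ := exists_swap E.stronglyEmbedded (Ne.symm hy) ha hb
  have hvx : v • pt ≠ pt := by rw [hvy]; exact hy
  have hcop : (Nat.card D).Coprime (Nat.card (T : Subgroup G)) := by
    haveI : Fact (Nat.Prime 2) := ⟨Nat.prime_two⟩
    have hT : IsPGroup 2 (T : Subgroup G) := T.2
    obtain ⟨k, hk⟩ := hT.exists_card_eq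
    rw [hk]
    refine Nat.Coprime.pow_right _ ((Nat.prime_two.coprime_iff_not_dvd.mpr fun h2 => ?_).symm)
    obtain ⟨⟨d, hd⟩, hdo⟩ := exists_prime_orderOf_dvd_card' 2 h2
    rw [← Subgroup.orderOf_coe] at hdo
    exact ne_one hdo (E.eq_one_of_sq hu hux hd (hdo ▸ pow_orderOf_eq_one d))
  haveI : Fact (Nat.Prime 2) := ⟨Nat.prime_two⟩
  haveI : Group.IsNilpotent (T : Subgroup G) := IsPGroup.isNilpotent T.2
  obtain ⟨k, hk, hfix⟩ := CfsgLib.CoprimeAction.exists_fixed (A := D) (K := (T : Subgroup G))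
    (E.twoPoint_le hux) hcop (Or.inr inferInstance) y (fun d hd => by
      obtain ⟨t, ht, d', hd', he⟩ := E.exists_factor' hv hvx (E.twoPoint_le hux hd)
      refine ⟨t, ht, ?_⟩
      rw [he, mul_smul, ← hvy, (E.mem_twoPoint.mp hd').2])
  rcases E.fix_twoPoint hu hux hfix with h | h
  · exfalso
    apply hy
    rw [← inv_smul_smul k y, h]
    exact smul_pt_eq_iff.mpr (le_normalizer_self (inv_mem hk))
  · exact ⟨k⁻¹, inv_mem hk, by rw [← h, inv_smul_smul]⟩

omit hu in
theorem translate_ne {t : G} (ht : t ∈ (T : Subgroup G)) : t • u • pt ≠ pt := fun h =>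
  hux (by rw [← inv_smul_smul t (u • pt), h]; exact smul_pt_eq_iff.mpr (le_normalizer_self (inv_mem ht)))

/-- Every element is `t d` or `t u t' d`. -/
theorem exists_normal_form (g : G) : g ∈ Hn ∨
    ∃ t ∈ (T : Subgroup G), ∃ h ∈ Hn, g = t * u * h := by
  by_cases hg : g ∈ Hn
  · exact Or.inl hg
  · obtain ⟨t, ht, htu⟩ := E.exists_translation hu hux (y := g • pt)
      (fun h => hg (smul_pt_eq_iff.mp h))
    refine Or.inr ⟨t, ht, (t * u)⁻¹ * g, ?_, by group⟩
    rw [← smul_pt_eq_iff, mul_smul, ← htu, ← mul_smul t, inv_smul_smul]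

/-- The number of points. -/
theorem card_points : Nat.card (G ⧸ Hn) = Nat.card (T : Subgroup G) + 1 := by
  classical
  have e : (T : Subgroup G) ≃ {y : G ⧸ Hn // y ≠ pt} :=
    Equiv.ofBijective (fun t => ⟨(t : G) • u • pt, E.translate_ne hux t.2⟩)
      ⟨fun a b h => Subtype.ext (E.eq_of_smul_eq a.2 b.2 hux (congrArg Subtype.val h)),
        fun y => by
          obtain ⟨t, ht, htu⟩ := E.exists_translation hu hux y.2
          exact ⟨⟨t, ht⟩, Subtype.ext htu⟩⟩
  rw [Nat.card_congr e, ← Nat.card_congr (Equiv.optionSubtypeNe pt), Finite.card_option]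

end

/-- There is an involution outside the normalizer. -/
theorem exists_outside : ∃ u : G, orderOf u = 2 ∧ u • pt ≠ pt := by
  obtain ⟨g, hg⟩ : ∃ g : G, g ∉ Hn := by
    by_contra! h
    exact E.stronglyEmbedded.1 ((Subgroup.eq_top_iff' _).mpr h)
  obtain ⟨b, hb, hby⟩ := fixingInvolutions_nonempty E.stronglyEmbedded (g • pt)
  exact ⟨b, hb, fun h =>
    hg (smul_pt_eq_iff.mp (fix_unique E.stronglyEmbedded hb hby h))⟩

end ElemCentHyp

end CfsgLib.TwoFusion
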