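/-
The field structure on the Sylow 2-subgroup of a group with elementary abelian involution
centralisers, and the identification of the group with `PSL(2, F)`.
-/
import Mathlib
import Cfsg.Agent.S1229
import Cfsg.Agent.Lib.TwoFusion.ElemCent
import Cfsg.Agent.Lib.SL2.Card

set_option autoImplicit false

namespace CfsgLib.TwoFusion

open scoped MatrixGroups

namespace ElemCentHyp

variable {G : Type*} [Group G] [Finite G] {T : Sylow 2 G} (E : ElemCentHyp T)
include E

/-- The Sylow subgroup carries a field structure in which conjugation by the two point stabiliser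
is multiplication. -/
theorem exists_field {u : G} (hu : orderOf u = 2)
    (hux : u • (QuotientGroup.mk (1 : G) : G ⧸ Subgroup.normalizer ((T : Subgroup G) : Set G)) ≠
      QuotientGroup.mk (1 : G)) :
    ∃ (F : Type) (_ : Field F) (_ : Fintype F) (τ : F → G) (δ : F → G),
      Fintype.card F = Nat.card (T : Subgroup G) ∧ Function.Injective τ ∧
      (∀ g : G, g ∈ (T : Subgroup G) ↔ ∃ a, τ a = g) ∧ (∀ a b, τ (a + b) = τ a * τ b) ∧
      (∀ c, c ≠ 0 → δ c ∈ E.twoPoint u) ∧ (∀ d ∈ E.twoPoint u, ∃ c, c ≠ 0 ∧ δ c = d) ∧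
      (∀ c a, c ≠ 0 → δ c * τ a * (δ c)⁻¹ = τ (c * a)) := by
  classical
  haveI := Fintype.ofFinite (T : Subgroup G)
  obtain ⟨z, hz, hzT, -⟩ := E.exists_involution_le
  have hz1 : z ≠ 1 := CfsgLib.Involutions.ne_one hz
  set D := E.twoPoint u
  haveI : IsMulCommutative (T : Subgroup G) := ⟨⟨fun a b => Subtype.ext (E.comm a.2 b.2)⟩⟩
  let _ : CommGroup (T : Subgroup G) :=
    { (inferInstance : Group (T : Subgroup G)) with mul_comm := mul_comm' }
  have hDc : ∀ a ∈ D, ∀ b ∈ D, a * b = b * a := by
    intro a ha b hb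
    have hi := (E.inverts_and_card hu hux).1
    have h := hi (a * b) (mul_mem ha hb)
    rw [show u * (a * b) * u⁻¹ = (u * a * u⁻¹) * (u * b * u⁻¹) by group, hi a ha, hi b hb] at h
    have := congrArg Inv.inv h
    rw [mul_inv_rev, inv_inv, inv_inv, inv_inv] at this
    exact this.symm
  have hex : ∀ a : (T : Subgroup G), ∃ d ∈ D, (a : G) ≠ 1 → d * z * d⁻¹ = a := by
    intro a
    by_cases ha : (a : G) = 1
    · exact ⟨1, one_mem _, fun h => absurd ha h⟩
    · obtain ⟨d, hd, hdz⟩ := E.exists_conj hu hux hzT hz1 a.2 ha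
      exact ⟨d, hd, fun _ => hdz⟩
  choose δ hδD hδz using hex
  have hδuniq : ∀ d ∈ D, ∀ a : (T : Subgroup G), d * z * d⁻¹ = a → δ a = d := by
    intro d hd a h
    have ha : (a : G) ≠ 1 := fun h1 => hz1 (conj_eq_one_iff.mp (h.trans h1))
    exact E.conj_inj hux hzT hz1 (hδD a) hd ((hδz a ha).trans h.symm)
  have hconjT : ∀ d ∈ D, ∀ a : (T : Subgroup G), d * a * d⁻¹ ∈ (T : Subgroup G) := fun d hd a =>
    (Subgroup.mem_normalizer_iff.mp (E.twoPoint_le hux hd) a).mp a.2
  let mul' : ↥(T : Subgroup G) → ↥(T : Subgroup G) → ↥(T : Subgroup G) := fun a b =>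
    if (a : G) = 1 then 1 else ⟨δ a * b * (δ a)⁻¹, hconjT _ (hδD a) b⟩
  have mul'_zero : ∀ b, mul' 1 b = 1 := fun b => by simp [mul']
  have mul'_val : ∀ a : ↥(T : Subgroup G), (a : G) ≠ 1 → ∀ b, (mul' a b : G) = δ a * b * (δ a)⁻¹ :=
    fun a ha b => by simp only [mul', if_neg ha]
  have zero_mul' : ∀ a, mul' a 1 = 1 := by
    intro a
    by_cases ha : (a : G) = 1
    · simp [mul', ha]
    · exact Subtype.ext (by rw [mul'_val a ha]; simp)
  have mul'_ne : ∀ a b : ↥(T : Subgroup G), (a : G) ≠ 1 → (b : G) ≠ 1 → (mul' a b : G) ≠ 1 := fun a b ha hb => by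
    rw [mul'_val a ha]; exact fun h => hb (conj_eq_one_iff.mp h)
  have hδmul : ∀ a b : ↥(T : Subgroup G), (a : G) ≠ 1 → (b : G) ≠ 1 → δ (mul' a b) = δ a * δ b := by
    intro a b ha hb
    refine hδuniq _ (mul_mem (hδD a) (hδD b)) _ ?_
    rw [mul'_val a ha, ← hδz b hb]
    group
  have mul'_comm : ∀ a b, mul' a b = mul' b a := by
    intro a b
    by_cases ha : (a : G) = 1
    · obtain rfl : a = 1 := Subtype.ext ha
      rw [mul'_zero, zero_mul']
    by_cases hb : (b : G) = 1
    · obtain rfl : b = 1 := Subtype.ext hb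
      rw [mul'_zero, zero_mul']
    apply Subtype.ext
    rw [mul'_val a ha, mul'_val b hb]
    conv_lhs => rw [← hδz b hb]
    conv_rhs => rw [← hδz a ha]
    rw [show δ a * (δ b * z * (δ b)⁻¹) * (δ a)⁻¹ = (δ a * δ b) * z * (δ a * δ b)⁻¹ by group,
      hDc _ (hδD a) _ (hδD b)]
    group
  have mul'_distrib : ∀ a b c, mul' a (b * c) = mul' a b * mul' a c := by
    intro a b c
    by_cases ha : (a : G) = 1
    · obtain rfl : a = 1 := Subtype.ext ha
      simp only [mul'_zero, one_mul]
    apply Subtype.ext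
    simp only [Subgroup.coe_mul, mul'_val a ha]
    group
  have mul'_assoc : ∀ a b c, mul' (mul' a b) c = mul' a (mul' b c) := by
    intro a b c
    by_cases ha : (a : G) = 1
    · obtain rfl : a = 1 := Subtype.ext ha
      simp only [mul'_zero]
    by_cases hb : (b : G) = 1
    · obtain rfl : b = 1 := Subtype.ext hb
      simp only [mul'_zero, zero_mul']
    apply Subtype.ext
    rw [mul'_val _ (mul'_ne a b ha hb), mul'_val a ha, mul'_val b hb, hδmul a b ha hb]
    group
  let one' : (T : Subgroup G) := ⟨z, hzT⟩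
  have one'_mul : ∀ a, mul' one' a = a := by
    intro a
    apply Subtype.ext
    rw [mul'_val one' hz1, hδuniq 1 (one_mem _) one' (by simp [one'])]
    simp
  letI R : CommRing (Additive (T : Subgroup G)) :=
    { (inferInstance : AddCommGroup (Additive (T : Subgroup G))) with
      mul := fun a b => Additive.ofMul (mul' a.toMul b.toMul)
      one := Additive.ofMul one'
      mul_assoc := fun a b c => mul'_assoc _ _ _
      one_mul := fun a => one'_mul _
      mul_one := fun a => (mul'_comm _ _).trans (one'_mul _)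
      mul_comm := fun a b => mul'_comm _ _
      left_distrib := fun a b c => mul'_distrib _ _ _
      right_distrib := fun a b c => (mul'_comm _ _).trans ((mul'_distrib _ _ _).trans
        (congrArg₂ (· * ·) (mul'_comm _ _) (mul'_comm _ _)))
      zero_mul := fun a => mul'_zero _
      mul_zero := fun a => zero_mul' _ }
  have hfield : IsField (Additive (T : Subgroup G)) := by
    refine ⟨⟨Additive.ofMul one', 0, fun h => hz1 (congrArg (fun x => ((x.toMul : (T : Subgroup G)) : G)) h)⟩,
      mul_comm, fun {a} ha => ?_⟩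
    have ha' : (a.toMul : G) ≠ 1 := fun h => ha (Additive.toMul.injective (Subtype.ext h))
    refine ⟨Additive.ofMul ⟨(δ a.toMul)⁻¹ * one' * (δ a.toMul), ?_⟩, ?_⟩
    · simpa using hconjT _ (inv_mem (hδD a.toMul)) one'
    · apply Additive.toMul.injective
      apply Subtype.ext
      show (mul' a.toMul _ : G) = z
      rw [mul'_val _ ha']
      simp [one', mul_assoc]
  letI := hfield.toField
  let e : Fin (Nat.card (T : Subgroup G)) ≃ Additive (T : Subgroup G) :=
    (Finite.equivFin _).symm.trans Additive.ofMul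
  letI FF : Field (Fin (Nat.card (T : Subgroup G))) := e.field
  have hzero : e (@OfNat.ofNat _ 0 (@Zero.toOfNat0 _ FF.toZero)) = 0 := e.apply_symm_apply 0
  refine ⟨Fin (Nat.card (T : Subgroup G)), FF, inferInstance, fun a => ((Additive.toMul (e a) : ↥(T : Subgroup G)) : G),
    fun c => δ (Additive.toMul (e c)), Fintype.card_fin _, ?_, ?_, ?_, fun c _ => hδD _, ?_, ?_⟩
  · exact fun a b h => e.injective (Additive.toMul.injective (Subtype.ext h))
  · intro g
    refine ⟨fun hg => ⟨e.symm (Additive.ofMul ⟨g, hg⟩), by simp⟩, ?_⟩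
    rintro ⟨a, rfl⟩
    exact SetLike.coe_mem _
  · intro a b
    show ((Additive.toMul (e (e.symm (e a + e b))) : ↥(T : Subgroup G)) : G) = _
    rw [Equiv.apply_symm_apply]
    rfl
  · intro d hd
    refine ⟨e.symm (Additive.ofMul ⟨d * z * d⁻¹, hconjT d hd one'⟩), fun h => ?_, ?_⟩
    · have h2 := congrArg e h
      rw [Equiv.apply_symm_apply,
        hzero] at h2
      exact hz1 (conj_eq_one_iff.mp (congrArg (fun x => ((Additive.toMul x : (T : Subgroup G)) : G)) h2))
    · simp only [Equiv.apply_symm_apply, toMul_ofMul]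
      exact hδuniq d hd _ rfl
  · intro c a hc
    have hc' : ((Additive.toMul (e c) : ↥(T : Subgroup G)) : G) ≠ 1 := fun h => hc (e.injective
      ((Additive.toMul.injective (Subtype.ext h)).trans hzero.symm))
    show _ = ((Additive.toMul (e (e.symm (e c * e a))) : ↥(T : Subgroup G)) : G)
    rw [Equiv.apply_symm_apply]
    exact (mul'_val _ hc' _).symm

/-- A group with a nonnormal noncyclic Sylow 2-subgroup and elementary abelian involution
centralisers is `SL(2, F)`. -/
theorem exists_mulEquiv_SL2 : ∃ (F : Type) (_ : Field F) (_ : Fintype F),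
    Fintype.card F = Nat.card (T : Subgroup G) ∧ (2 : F) = 0 ∧ Nonempty (G ≃* SL(2, F)) := by
  classical
  obtain ⟨u, hu, hux⟩ := E.exists_outside
  obtain ⟨F, _, _, τ, δ, hcard, hτ, hτT, hadd, hδ, hδs, hmul⟩ := E.exists_field hu hux
  set x : G ⧸ Subgroup.normalizer ((T : Subgroup G) : Set G) := QuotientGroup.mk 1 with hx
  have hτmem : ∀ a, τ a ∈ (T : Subgroup G) := fun a => (hτT _).mpr ⟨a, rfl⟩
  have hτ0 : τ 0 = 1 := by
    have h := hadd 0 0
    rw [add_zero] at h
    exact mul_eq_left.mp h.symm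
  have h2 : (2 : F) = 0 := by
    rw [← one_add_one_eq_two]
    apply hτ
    rw [hadd, hτ0, ← pow_two]
    exact E.sq_eq_one (hτmem 1)
  have hsq : ∀ a : F, IsSquare a := fun a => FiniteField.isSquare_of_char_two (by
    haveI := ringChar.charP F
    have h : ringChar F ∣ 2 := (ringChar.spec F 2).mp (by exact_mod_cast h2)
    rcases (Nat.dvd_prime Nat.prime_two).mp h with h | h
    · exact absurd h CharP.ringChar_ne_one
    · exact h) a
  -- the points as the projective line
  let e0 : OnePoint F → G ⧸ Subgroup.normalizer ((T : Subgroup G) : Set G) :=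
    fun p => p.elim x (fun a => τ a • u • x)
  have he0 : Function.Bijective e0 := by
    constructor
    · intro p q h
      cases p with
      | infty =>
        cases q with
        | infty => rfl
        | coe b => exact absurd h.symm (E.translate_ne hux (hτmem b))
      | coe a =>
        cases q with
        | infty => exact absurd h (E.translate_ne hux (hτmem a))
        | coe b => exact congrArg _ (hτ (E.eq_of_smul_eq (hτmem a) (hτmem b) hux h))
    · intro y
      by_cases hy : y = x
      · exact ⟨OnePoint.infty, hy.symm⟩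
      · obtain ⟨t, ht, htu⟩ := E.exists_translation hu hux hy
        obtain ⟨a, rfl⟩ := (hτT t).mp ht
        exact ⟨(a : OnePoint F), htu⟩
  let e := Equiv.ofBijective e0 he0
  let ρ : G →* Equiv.Perm (OnePoint F) :=
    (e.symm.permCongrHom.toMonoidHom).comp (MulAction.toPermHom G _)
  have hρ : ∀ g p, e0 (ρ g p) = g • e0 p := by
    intro g p
    show e (e.symm (g • e p)) = _
    rw [Equiv.apply_symm_apply]
    rfl
  let σ : SL(2, F) →* Equiv.Perm (OnePoint F) :=
    (MulAction.toPermHom (GL (Fin 2) F) (OnePoint F)).comp Matrix.SpecialLinearGroup.toGL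
  have hcardX : Nat.card (G ⧸ Subgroup.normalizer ((T : Subgroup G) : Set G)) =
      Nat.card (T : Subgroup G) + 1 := E.card_points hu hux
  have hρinj : Function.Injective ρ := by
    rw [injective_iff_map_eq_one]
    intro g hg
    obtain ⟨-, h3, -⟩ := Cfsg.Agent.S1229.result T E.notCyclic E.notNormal E.elem
    have hfix : ∀ p, g • e0 p = e0 p := fun p => by rw [← hρ, hg]; rfl
    refine h3 g (e0 .infty) (e0 ((0 : F) : OnePoint F)) (e0 ((1 : F) : OnePoint F)) ?_ ?_ ?_
      (hfix _) (hfix _) (hfix _)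
    · exact fun h => OnePoint.infty_ne_coe _ (he0.1 h)
    · exact fun h => OnePoint.infty_ne_coe _ (he0.1 h)
    · exact fun h => zero_ne_one (OnePoint.coe_injective (he0.1 h))
  have hσ : ∀ (M : SL(2, F)) (p : OnePoint F),
      σ M p = Matrix.SpecialLinearGroup.toGL M • p := fun _ _ => rfl
  -- the three kinds of generators
  have hT' : ∀ t ∈ (T : Subgroup G), ρ t ∈ σ.range := by
    intro t ht
    obtain ⟨b, rfl⟩ := (hτT t).mp ht
    refine ⟨⟨!![1, b; 0, 1], by simp [Matrix.det_fin_two_of]⟩, Equiv.ext fun p => he0.1 ?_⟩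
    rw [hρ]
    erw [hσ]
    cases p with
    | infty =>
      simp [e0, Matrix.SpecialLinearGroup.toGL, OnePoint.smul_infty_eq_ite]
      exact (smul_pt_eq_iff.mpr (le_normalizer_self (hτmem b))).symm
    | coe a =>
      simp [e0, Matrix.SpecialLinearGroup.toGL, OnePoint.smul_some_eq_ite]
      rw [← mul_smul (τ b) (τ a), ← hadd, add_comm]
  have hD' : ∀ d ∈ E.twoPoint u, ρ d ∈ σ.range := by
    intro d hd
    obtain ⟨c, hc, rfl⟩ := hδs d hd
    obtain ⟨s, rfl⟩ := hsq c
    have hs : s ≠ 0 := fun h => hc (by rw [h, mul_zero])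
    refine ⟨⟨!![s, 0; 0, s⁻¹], by simp [Matrix.det_fin_two_of, hs]⟩, Equiv.ext fun p => he0.1 ?_⟩
    rw [hρ]
    erw [hσ]
    cases p with
    | infty =>
      simp [e0, Matrix.SpecialLinearGroup.toGL, OnePoint.smul_infty_eq_ite]
      exact (E.mem_twoPoint.mp hd).1.symm
    | coe a =>
      simp [e0, Matrix.SpecialLinearGroup.toGL, OnePoint.smul_some_eq_ite, hs]
      rw [E.smul_conj_pt hu hux hd, hmul _ _ hc]
      congr 2
      ring
  have hu' : ρ u ∈ σ.range := by
    have hne : u • τ 1 • u • x ≠ x := by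
      intro h
      have h1 := congrArg (fun w => u • w) h
      simp only [← mul_smul, ← mul_assoc, CfsgLib.Involutions.mul_self_eq_one hu, one_mul] at h1
      rw [mul_smul] at h1
      exact one_ne_zero (hτ (hτ0.symm ▸ E.eq_one_of_fix (hτmem 1) hux h1 : τ 1 = τ 0))
    obtain ⟨t, ht, htu⟩ := E.exists_translation hu hux hne
    obtain ⟨γ, rfl⟩ := (hτT t).mp ht
    have hγ : γ ≠ 0 := by
      rintro rfl
      rw [hτ0, one_smul] at htu
      exact (E.translate_ne hux (hτmem 1)) (smul_left_cancel u htu).symm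
    obtain ⟨r, rfl⟩ := hsq γ
    have hr : r ≠ 0 := fun h => hγ (by rw [h, mul_zero])
    refine ⟨⟨!![0, r; r⁻¹, 0], by
      simp [Matrix.det_fin_two_of, hr]
      rw [show (-1 : F) = 1 by linear_combination (-1 : F) * h2]⟩, Equiv.ext fun p => he0.1 ?_⟩
    rw [hρ]
    erw [hσ]
    cases p with
    | infty =>
      simp [e0, Matrix.SpecialLinearGroup.toGL, OnePoint.smul_infty_eq_ite, hr, hτ0]
    | coe a =>
      by_cases ha : a = 0
      · subst ha
        simp [e0, Matrix.SpecialLinearGroup.toGL, OnePoint.smul_some_eq_ite, hτ0]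
        exact (smul_swap hu rfl).symm
      · simp [e0, Matrix.SpecialLinearGroup.toGL, OnePoint.smul_some_eq_ite, hr, ha]
        have h1 : τ a = δ a * τ 1 * (δ a)⁻¹ := by rw [hmul a 1 ha, mul_one]
        have hdd : (δ a)⁻¹ ∈ E.twoPoint u := inv_mem (hδ a ha)
        have h3 : u • τ a • u • x = (δ a)⁻¹ • u • τ 1 • u • x := by
          rw [h1, ← E.smul_conj_pt hu hux (hδ a ha), ← mul_smul u (δ a), ← mul_smul (δ a)⁻¹ u]
          congr 1
          have := (E.inverts_and_card hu hux).1 _ (hδ a ha)
          rw [← this]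
          group
        rw [h3, ← htu, E.smul_conj_pt hu hux hdd, inv_inv]
        congr 1
        have h4 := hmul a (r / (r⁻¹ * a)) ha
        rw [show a * (r / (r⁻¹ * a)) = r * r by field_simp] at h4
        rw [← h4]
        group
  have hrange : ρ.range ≤ σ.range := by
    rintro _ ⟨g, rfl⟩
    have hH : ∀ h ∈ Subgroup.normalizer ((T : Subgroup G) : Set G), ρ h ∈ σ.range := by
      intro h hh
      obtain ⟨t, ht, d, hd, rfl⟩ := E.exists_factor' hu hux hh
      rw [map_mul]
      exact mul_mem (hT' t ht) (hD' d hd)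
    rcases E.exists_normal_form hu hux g with hg | ⟨t, ht, h, hh, rfl⟩
    · exact hH g hg
    · rw [map_mul, map_mul]
      exact mul_mem (mul_mem (hT' t ht) hu') (hH h hh)
  have hcardG : Nat.card G = Nat.card SL(2, F) := by
    rw [CfsgLib.SL2.card_SL, Nat.card_eq_fintype_card (α := F), hcard,
      ← Subgroup.card_mul_index (Subgroup.normalizer ((T : Subgroup G) : Set G)),
      Subgroup.index_eq_card, hcardX, E.card_normalizer hu hux, mul_assoc]
    congr 1
    obtain ⟨n, hn⟩ : ∃ n, Nat.card (T : Subgroup G) = n + 1 :=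
      ⟨_, (Nat.succ_pred_eq_of_pos Nat.card_pos).symm⟩
    rw [hn, Nat.add_sub_cancel]
    have h : (n + 1) ^ 2 = n * (n + 1 + 1) + 1 := by ring
    rw [h, Nat.add_sub_cancel]
  have hρr : Nat.card ρ.range = Nat.card G :=
    Nat.card_congr (MonoidHom.ofInjective hρinj).toEquiv.symm
  have hσr : Nat.card σ.range ≤ Nat.card SL(2, F) :=
    Nat.card_le_card_of_surjective σ.rangeRestrict σ.rangeRestrict_surjective
  have heq : ρ.range = σ.range := Subgroup.eq_of_le_of_card_ge hrange (by omega)
  have hσinj : Function.Injective σ := by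
    have hb : Function.Bijective σ.rangeRestrict :=
      (Nat.bijective_iff_surjective_and_card _).mpr ⟨σ.rangeRestrict_surjective, by
        rw [← heq, hρr, hcardG]⟩
    exact MonoidHom.rangeRestrict_injective_iff.mp hb.1
  exact ⟨F, inferInstance, inferInstance, hcard, h2, ⟨(MonoidHom.ofInjective hρinj).trans
    ((MulEquiv.subgroupCongr heq).trans (MonoidHom.ofInjective hσinj).symm)⟩⟩

end ElemCentHyp

end CfsgLib.TwoFusion
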