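/-
The Sylow 2-subgroup of `PSU(3,4)`.
-/
import Mathlib
import Cfsg.Agent.Lib.Generators.GU
import Cfsg.Agent.S0279
import Cfsg.Agent.S0280

set_option autoImplicit false

namespace CfsgLib.TwoFusion.PSUFour

open scoped Matrix MatrixGroups commutatorElement

variable {F : Type*} [Field F]

/-- A coordinate system for the group of upper unitriangular unitary matrices over `GF(16)`. -/
structure Coord (H : Type*) [Group H] (F : Type*) [Field F] (β : H → F × F) : Prop where
  inj : Function.Injective β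
  rel : ∀ g, (β g).2 ^ 4 + (β g).2 + (β g).1 ^ 5 = 0
  surj : ∀ a b : F, b ^ 4 + b + a ^ 5 = 0 → ∃ g, β g = (a, b)
  mul : ∀ g h, β (g * h) = ((β g).1 + (β h).1, (β g).2 + (β h).2 + (β g).1 ^ 4 * (β h).1)

section Field16

variable [Fintype F] (hF : Fintype.card F = 16)
include hF

theorem charP_two : CharP F 2 := by
  obtain ⟨p, hp⟩ := CharP.exists F
  obtain ⟨n, hpr, hn⟩ := FiniteField.card F p
  have : p ∣ 2 ^ 4 := by
    rw [show (2 : ℕ) ^ 4 = 16 by norm_num, ← hF, hn]
    exact dvd_pow_self p n.pos.ne'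
  have := (Nat.prime_dvd_prime_iff_eq hpr Nat.prime_two).1 (hpr.dvd_of_dvd_pow this)
  subst this
  exact hp

theorem add_self (a : F) : a + a = 0 := by
  haveI := charP_two hF
  exact CharTwo.add_self_eq_zero a

theorem pow_four_add (a b : F) : (a + b) ^ 4 = a ^ 4 + b ^ 4 := by
  haveI := charP_two hF
  haveI : Fact (Nat.Prime 2) := ⟨Nat.prime_two⟩
  exact add_pow_char_pow (p := 2) (n := 2) a b

theorem pow_sixteen (a : F) : a ^ 16 = a := by rw [← hF]; exact FiniteField.pow_card a

theorem pow_four_eq_iff (b : F) : b ^ 4 = b ↔ b ^ 4 + b = 0 := by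
  constructor
  · intro h; rw [h, add_self hF]
  · intro h
    linear_combination h - add_self hF b

theorem trace_facts :
    Nat.card {b : F // b ^ 4 = b} = 4 ∧ ∀ k : F, k ^ 4 = k → ∃ b : F, b ^ 4 + b = k := by
  classical
  let f : F →+ F := AddMonoidHom.mk' (fun b => b ^ 4 + b) (fun a b => by
    simp only [pow_four_add hF]; ring)
  have hker : ∀ b, b ∈ f.ker ↔ b ^ 4 = b := fun b => by
    rw [AddMonoidHom.mem_ker, pow_four_eq_iff hF]; rfl
  have hK : Nat.card f.ker ≤ 4 := by
    have hne : (Polynomial.X ^ 4 - Polynomial.X : Polynomial F) ≠ 0 := by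
      intro h
      have := congrArg (fun P : Polynomial F => P.coeff 4) h
      simp [Polynomial.coeff_X] at this
    rw [Nat.card_eq_fintype_card, Fintype.card_subtype]
    refine le_trans (Finset.card_le_card (t := (Polynomial.X ^ 4 - Polynomial.X : Polynomial F).roots.toFinset)
      fun b hb => ?_) ((Multiset.toFinset_card_le _).trans ((Polynomial.card_roots' _).trans ?_))
    · rw [Multiset.mem_toFinset, Polynomial.mem_roots hne]
      have := (hker b).1 (Finset.mem_filter.1 hb).2
      simp [this]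
    · compute_degree
  have hle : f.range ≤ f.ker := by
    rintro _ ⟨b, rfl⟩
    rw [hker]
    show (b ^ 4 + b) ^ 4 = b ^ 4 + b
    rw [pow_four_add hF, ← pow_mul, pow_sixteen hF, add_comm]
  have h16 : Nat.card f.ker * Nat.card f.range = 16 := by
    rw [← AddSubgroup.index_ker, f.ker.card_mul_index, Nat.card_eq_fintype_card, hF]
  have hR : Nat.card f.range ≤ Nat.card f.ker :=
    AddSubgroup.card_le_of_le hle
  have h4 : Nat.card f.ker = 4 := by nlinarith
  have hR4 : Nat.card f.range = 4 := by nlinarith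
  refine ⟨?_, fun k hk => ?_⟩
  · exact (Nat.card_congr (Equiv.subtypeEquivRight fun b => (hker b).symm)).trans h4
  · have he : f.range = f.ker := AddSubgroup.eq_of_le_of_card_ge hle (by rw [h4, hR4])
    obtain ⟨b, hb⟩ := (he.symm ▸ (hker k).2 hk : k ∈ f.range)
    exact ⟨b, hb⟩

theorem exists_rel (a : F) : ∃ b : F, b ^ 4 + b + a ^ 5 = 0 := by
  obtain ⟨b, hb⟩ := (trace_facts hF).2 (a ^ 5) (by
    rw [← pow_mul, show 5 * 4 = 16 + 4 from rfl, pow_add, pow_sixteen hF]; ring)
  exact ⟨b, by rw [hb, add_self hF]⟩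

theorem coord_facts {H : Type*} [Group H] [Finite H] {β : H → F × F} (hβ : Coord H F β) :
    Nat.card H = 64 ∧ IsKleinFour (Subgroup.center H) ∧
    Subgroup.center H = Subgroup.closure {x : H | orderOf x = 2} ∧
    Subgroup.center H = commutator H ∧ Nat.card (H ⧸ Subgroup.center H) = 16 ∧
    ∀ x : H ⧸ Subgroup.center H, x ^ 2 = 1 := by
  classical
  have h1 : β 1 = (0, 0) := by
    have h := hβ.mul 1 1
    rw [mul_one] at h
    have e1 : (β 1).1 = 0 := by
      have := congrArg Prod.fst h
      simpa using this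
    have e2 : (β 1).2 = 0 := by
      have := congrArg Prod.snd h
      simp [e1] at this
      exact this
    exact Prod.ext e1 e2
  have hone : ∀ g, g = 1 ↔ β g = (0, 0) := fun g => by rw [← h1, hβ.inj.eq_iff]
  have hrel0 : ∀ g, (β g).1 = 0 → (β g).2 ^ 4 = (β g).2 := fun g hg => by
    have := hβ.rel g
    rw [hg] at this
    rw [pow_four_eq_iff hF]
    simpa using this
  have hcomm : ∀ g h, Commute g h ↔ (β g).1 ^ 4 * (β h).1 = (β h).1 ^ 4 * (β g).1 := fun g h => by
    rw [Commute, SemiconjBy, ← hβ.inj.eq_iff, hβ.mul, hβ.mul, Prod.mk.injEq]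
    constructor
    · rintro ⟨-, h'⟩; linear_combination h'
    · intro h'; exact ⟨add_comm _ _, by linear_combination h'⟩
  have hcen : ∀ g, g ∈ Subgroup.center H ↔ (β g).1 = 0 := by
    intro g
    rw [Subgroup.mem_center_iff]
    constructor
    · intro hg
      have key : ∀ c : F, (β g).1 ^ 4 * c = c ^ 4 * (β g).1 := fun c => by
        obtain ⟨d, hd⟩ := exists_rel hF c
        obtain ⟨h, hh⟩ := hβ.surj c d hd
        have := (hcomm g h).1 (hg h).symm
        rwa [hh] at this
      have ha : (β g).1 ^ 4 = (β g).1 := by simpa using key 1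
      by_contra hne
      have hall : ∀ c : F, c ^ 4 = c := fun c => by
        have := key c
        rw [ha, mul_comm] at this
        exact (mul_right_cancel₀ hne this).symm
      have h4 := (trace_facts hF).1
      rw [Nat.card_congr (Equiv.subtypeUnivEquiv hall), Nat.card_eq_fintype_card, hF] at h4
      norm_num at h4
    · intro hg h
      exact ((hcomm g h).2 (by rw [hg]; ring)).symm.eq
  have hsq : ∀ g, β (g ^ 2) = (0, (β g).1 ^ 4 * (β g).1) := fun g => by
    rw [pow_two, hβ.mul, add_self hF, add_self hF, zero_add]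
  have h2 : ∀ g : H, orderOf g = 2 ↔ g ∈ Subgroup.center H ∧ g ≠ 1 := by
    intro g
    constructor
    · intro hg
      refine ⟨(hcen g).2 ?_, fun e => by rw [e, orderOf_one] at hg; omega⟩
      have := hsq g
      rw [← hg, pow_orderOf_eq_one, h1, Prod.mk.injEq] at this
      have e : (β g).1 ^ 4 * (β g).1 = 0 := this.2.symm
      rcases mul_eq_zero.1 e with h | h
      · exact pow_eq_zero_iff (by norm_num) |>.1 h
      · exact h
    · rintro ⟨hg, hne⟩
      refine orderOf_eq_prime ?_ hne
      rw [hone, hsq, (hcen g).1 hg]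
      simp
  have hcard4 : Nat.card (Subgroup.center H) = 4 := by
    rw [← (trace_facts hF).1]
    refine Nat.card_congr (Equiv.ofBijective
      (fun g => (⟨(β g).2, hrel0 g ((hcen g).1 g.2)⟩ : {b : F // b ^ 4 = b})) ⟨?_, ?_⟩)
    · intro g h e
      refine Subtype.ext (hβ.inj (Prod.ext ?_ (congrArg Subtype.val e)))
      rw [(hcen g).1 g.2, (hcen h).1 h.2]
    · rintro ⟨b, hb⟩
      obtain ⟨g, hg⟩ := hβ.surj 0 b (by simpa using (pow_four_eq_iff hF b).1 hb)
      exact ⟨⟨g, (hcen g).2 (by rw [hg])⟩, Subtype.ext (by simp [hg])⟩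
  have hcardH : Nat.card H = 64 := by
    let R : F → Type _ := fun a => {b : F // b ^ 4 + b + a ^ 5 = 0}
    have hR : ∀ a, Nat.card (R a) = 4 := fun a => by
      rw [← (trace_facts hF).1]
      obtain ⟨b₀, hb₀⟩ := exists_rel hF a
      refine Nat.card_congr ((Equiv.addRight b₀).subtypeEquiv fun b => ?_).symm
      rw [pow_four_eq_iff hF, Equiv.coe_addRight, pow_four_add hF]
      constructor
      · intro h'; linear_combination h' + hb₀
      · intro h'; linear_combination h' - hb₀
    have e : H ≃ Σ a : F, R a := Equiv.ofBijective (fun g => ⟨(β g).1, (β g).2, hβ.rel g⟩) ⟨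
      fun g h e => hβ.inj (congrArg (fun s : Σ a : F, R a => (s.1, (s.2 : F))) e),
      fun ⟨a, b, hb⟩ => by
        obtain ⟨g, hg⟩ := hβ.surj a b hb
        refine ⟨g, ?_⟩
        have e1 : (β g).1 = a := by rw [hg]
        have e2 : (β g).2 = b := by rw [hg]
        subst e1 e2
        rfl⟩
    rw [Nat.card_congr e, Nat.card_sigma, Finset.sum_congr rfl fun a _ => hR a, Finset.sum_const,
      Finset.card_univ, hF]
    rfl
  have hq : ∀ x : H ⧸ Subgroup.center H, x ^ 2 = 1 := by
    intro x
    induction x using QuotientGroup.induction_on with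
    | _ g =>
      rw [← QuotientGroup.mk_pow, QuotientGroup.eq_one_iff, hcen, hsq]
  refine ⟨hcardH, ⟨hcard4, ?_⟩, ?_, ?_, ?_, hq⟩
  · obtain ⟨z, hz⟩ := exists_prime_orderOf_dvd_card' (G := Subgroup.center H) 2 (by rw [hcard4]; norm_num)
    haveI : Nontrivial (Subgroup.center H) :=
      Finite.one_lt_card_iff_nontrivial.1 (by rw [hcard4]; norm_num)
    refine Monoid.exponent_eq_prime_iff Nat.prime_two |>.2 fun g hg => ?_
    rw [← Subgroup.orderOf_coe]
    exact (h2 g).2 ⟨g.2, fun e => hg (Subtype.ext e)⟩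
  · refine le_antisymm (fun g hg => ?_) ((Subgroup.closure_le _).2 fun g hg => ((h2 g).1 hg).1)
    rcases eq_or_ne g 1 with rfl | hne
    · exact one_mem _
    · exact Subgroup.subset_closure ((h2 g).2 ⟨hg, hne⟩)
  · refine le_antisymm (fun z hz => ?_) ?_
    · obtain ⟨c, hc⟩ := (trace_facts hF).2 (β z).2 (hrel0 z ((hcen z).1 hz))
      obtain ⟨b, hb⟩ := exists_rel hF (1 : F)
      obtain ⟨g, hg⟩ := hβ.surj 1 b hb
      obtain ⟨d, hd⟩ := exists_rel hF c
      obtain ⟨h, hh⟩ := hβ.surj c d hd
      have e : z * (h * g) = g * h := hβ.inj (by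
        rw [hβ.mul, hβ.mul, hβ.mul, (hcen z).1 hz, hg, hh]
        refine Prod.ext (by ring) ?_
        simp only
        linear_combination (-1 : F) * hc + add_self hF (c ^ 4))
      have e' : z = ⁅g, h⁆ := by
        rw [commutatorElement_def, mul_assoc, mul_assoc, eq_comm]
        calc g * (h * (g⁻¹ * h⁻¹)) = (g * h) * (h * g)⁻¹ := by group
          _ = z := by rw [← e, mul_inv_cancel_right]
      rw [e', _root_.commutator_def]
      exact Subgroup.commutator_mem_commutator (Subgroup.mem_top g) (Subgroup.mem_top h)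
    · rw [_root_.commutator_def, Subgroup.commutator_le]
      intro g _ h _
      rw [← QuotientGroup.eq_one_iff]
      show QuotientGroup.mk' (Subgroup.center H) ⁅g, h⁆ = 1
      rw [map_commutatorElement, commutatorElement_eq_one_iff_commute]
      have hinv : ∀ x : H ⧸ Subgroup.center H, x⁻¹ = x := fun x =>
        inv_eq_of_mul_eq_one_right (by rw [← pow_two]; exact hq x)
      set x := QuotientGroup.mk' (Subgroup.center H) g
      set y := QuotientGroup.mk' (Subgroup.center H) h
      show x * y = y * x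
      calc x * y = (x * y)⁻¹ := (hinv _).symm
        _ = y⁻¹ * x⁻¹ := mul_inv_rev x y
        _ = y * x := by rw [hinv, hinv]
  · have := Subgroup.card_eq_card_quotient_mul_card_subgroup (Subgroup.center H)
    rw [hcardH, hcard4] at this
    omega

/-- The unitriangular matrix with coordinates `(a, b)`. -/
def um (a b : F) : Matrix (Fin 3) (Fin 3) F := !![1, a ^ 4, b; 0, 1, a; 0, 0, 1]

omit [Fintype F] hF in
theorem um_det (a b : F) : (um a b).det = 1 := by simp [um, Matrix.det_fin_three]

theorem um_mul (a b c d : F) : um a b * um c d = um (a + c) (b + d + a ^ 4 * c) := by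
  ext i j
  fin_cases i <;> fin_cases j <;>
    simp [um, Matrix.mul_apply, Fin.sum_univ_three, pow_four_add hF] <;> ring

theorem exists_coord (S : Sylow 2 (Cfsg.PSU 3 F 4)) :
    ∃ β : ↥(S : Subgroup (Cfsg.PSU 3 F 4)) → F × F, Coord ↥(S : Subgroup (Cfsg.PSU 3 F 4)) F β := by
  classical
  haveI : Fact (Nat.Prime 2) := ⟨Nat.prime_two⟩
  have hK : Fintype.card F = 4 ^ 2 := hF
  have h4 : ∀ a : F, (a ^ 4) ^ 4 = a := fun a => by rw [← pow_mul]; exact pow_sixteen hF a
  obtain ⟨w, hw⟩ := (trace_facts hF).2 1 (one_pow 4)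
  set M : Matrix (Fin 3) (Fin 3) F := !![1, 0, w; 1, 0, w + 1; 0, 1, 0] with hM
  have hneg : (-1 : F) = 1 := by linear_combination (-1 : F) * add_self hF (1 : F)
  have hMd : M.det = 1 := by
    rw [hM, Matrix.det_fin_three]
    simp
    linear_combination hneg
  let C : Matrix.SpecialLinearGroup (Fin 3) F := ⟨M, hMd⟩
  have hJ : CfsgLib.Generators.qAdjoint 4 M * M = !![0, 0, 1; 0, 1, 0; 1, 0, 0] := by
    ext i j
    fin_cases i <;> fin_cases j <;>
      simp [CfsgLib.Generators.qAdjoint, hM, Matrix.mul_apply, Fin.sum_univ_three, pow_four_add hF]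
    · exact add_self hF 1
    · linear_combination add_self hF w
    · linear_combination add_self hF (w ^ 4)
    · linear_combination hw + add_self hF (w ^ 4 * w) + add_self hF (1 : F)
  have hJu : ∀ a b : F, b ^ 4 + b + a ^ 5 = 0 →
      CfsgLib.Generators.qAdjoint 4 (um a b) * !![0, 0, 1; 0, 1, 0; 1, 0, 0] * um a b =
        !![0, 0, 1; 0, 1, 0; 1, 0, 0] := by
    intro a b hab
    ext i j
    fin_cases i <;> fin_cases j <;>
      simp [CfsgLib.Generators.qAdjoint, um, Matrix.mul_apply, Fin.sum_univ_three, h4, add_self hF]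
    linear_combination hab
  -- the subgroup of unitriangular matrices
  let U : Subgroup (Matrix.SpecialLinearGroup (Fin 3) F) :=
    { carrier := {g | ∃ a b, b ^ 4 + b + a ^ 5 = 0 ∧ (g : Matrix (Fin 3) (Fin 3) F) = um a b}
      one_mem' := ⟨0, 0, by ring, by
        ext i j; fin_cases i <;> fin_cases j <;> simp [um]⟩
      mul_mem' := by
        rintro g h ⟨a, b, hab, hg⟩ ⟨c, d, hcd, hh⟩
        refine ⟨a + c, b + d + a ^ 4 * c, ?_, by
          rw [Matrix.SpecialLinearGroup.coe_mul, hg, hh, um_mul hF]⟩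
        rw [pow_four_add hF, pow_four_add hF, mul_pow, h4, pow_succ (a + c) 4, pow_four_add hF]
        linear_combination hab + hcd + add_self hF (a ^ 4 * c) + add_self hF (c ^ 4 * a)
      inv_mem' := by
        rintro g ⟨a, b, hab, hg⟩
        refine ⟨a, b + a ^ 5, ?_, ?_⟩
        · rw [pow_four_add hF, ← pow_mul, show 5 * 4 = 16 + 4 from rfl, pow_add, pow_sixteen hF]
          linear_combination hab + add_self hF (a * a ^ 4)
        · have e : g⁻¹ = (⟨um a (b + a ^ 5), um_det a _⟩ : Matrix.SpecialLinearGroup (Fin 3) F) := by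
            refine inv_eq_of_mul_eq_one_right (Subtype.ext ?_)
            show (g : Matrix (Fin 3) (Fin 3) F) * um a (b + a ^ 5) = 1
            rw [hg, um_mul hF, add_self hF, show b + (b + a ^ 5) + a ^ 4 * a = 0 by
              linear_combination add_self hF b + add_self hF (a ^ 5)]
            ext i j; fin_cases i <;> fin_cases j <;> simp [um]
          rw [e] }
  have hmemSU : ∀ g ∈ U, C * g * C⁻¹ ∈ Cfsg.SU 3 F 4 := by
    rintro g ⟨a, b, hab, hg⟩
    show Matrix.SpecialLinearGroup.toGL (C * g * C⁻¹) ∈ Cfsg.GU 3 F 4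
    rw [CfsgLib.Generators.mem_GU_iff_qAdjoint hK]
    show CfsgLib.Generators.qAdjoint 4 ((C * g * C⁻¹ : Matrix.SpecialLinearGroup (Fin 3) F) :
      Matrix (Fin 3) (Fin 3) F) * ((C * g * C⁻¹ : Matrix.SpecialLinearGroup (Fin 3) F) :
      Matrix (Fin 3) (Fin 3) F) = 1
    rw [Matrix.SpecialLinearGroup.coe_mul, Matrix.SpecialLinearGroup.coe_mul]
    set N : Matrix (Fin 3) (Fin 3) F := ((C⁻¹ : Matrix.SpecialLinearGroup (Fin 3) F) : Matrix (Fin 3) (Fin 3) F)
    have e1 : M * N = 1 := by
      show ((C : Matrix (Fin 3) (Fin 3) F)) * N = 1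
      rw [← Matrix.SpecialLinearGroup.coe_mul, mul_inv_cancel, Matrix.SpecialLinearGroup.coe_one]
    have e2 : CfsgLib.Generators.qAdjoint 4 N * CfsgLib.Generators.qAdjoint 4 M = 1 := by
      rw [← CfsgLib.Generators.qAdjoint_mul hK, e1, CfsgLib.Generators.qAdjoint_one hK]
    show CfsgLib.Generators.qAdjoint 4 (M * (g : Matrix (Fin 3) (Fin 3) F) * N) *
      (M * (g : Matrix (Fin 3) (Fin 3) F) * N) = 1
    rw [hg, CfsgLib.Generators.qAdjoint_mul hK, CfsgLib.Generators.qAdjoint_mul hK]
    calc CfsgLib.Generators.qAdjoint 4 N * (CfsgLib.Generators.qAdjoint 4 (um a b) *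
          CfsgLib.Generators.qAdjoint 4 M) * (M * um a b * N)
        = CfsgLib.Generators.qAdjoint 4 N * (CfsgLib.Generators.qAdjoint 4 (um a b) *
          (CfsgLib.Generators.qAdjoint 4 M * M) * um a b) * N := by
          simp only [Matrix.mul_assoc]
      _ = CfsgLib.Generators.qAdjoint 4 N * (CfsgLib.Generators.qAdjoint 4 M * M) * N := by
          rw [hJ, hJu a b hab]
      _ = (CfsgLib.Generators.qAdjoint 4 N * CfsgLib.Generators.qAdjoint 4 M) * (M * N) := by
          simp only [Matrix.mul_assoc]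
      _ = 1 := by rw [e1, e2, Matrix.one_mul]
  let ι : U →* Cfsg.SU 3 F 4 :=
    ((MulAut.conj C).toMonoidHom.comp U.subtype).codRestrict _ (fun g => hmemSU g g.2)
  have hZ : Subgroup.center (Cfsg.SU 3 F 4) = ⊥ := by
    rw [← Subgroup.card_eq_one, Cfsg.Agent.S0279.result hK 3 le_rfl]
    decide
  let π : U →* Cfsg.PSU 3 F 4 := (QuotientGroup.mk' _).comp ι
  have hπ : Function.Injective π := by
    intro g h e
    have e' : (ι g)⁻¹ * ι h ∈ Subgroup.center (Cfsg.SU 3 F 4) := QuotientGroup.eq.1 e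
    rw [hZ, Subgroup.mem_bot, inv_mul_eq_one] at e'
    exact Subtype.ext ((MulAut.conj C).injective (congrArg Subtype.val e'))
  let β₀ : U → F × F := fun g => ((g : Matrix.SpecialLinearGroup (Fin 3) F).1 1 2,
    (g : Matrix.SpecialLinearGroup (Fin 3) F).1 0 2)
  have hβ₀ : Coord U F β₀ := by
    refine ⟨?_, ?_, ?_, ?_⟩
    · rintro ⟨g, a, b, hab, hg⟩ ⟨h, c, d, hcd, hh⟩ e
      have e1 := congrArg Prod.fst e
      have e2 := congrArg Prod.snd e
      simp only [β₀] at e1 e2
      rw [hg, hh] at e1 e2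
      simp [um] at e1 e2
      refine Subtype.ext (Subtype.ext ?_)
      rw [hg, hh, e1, e2]
    · rintro ⟨g, a, b, hab, hg⟩
      simp only [β₀, hg]
      simpa [um] using hab
    · intro a b hab
      exact ⟨⟨⟨um a b, um_det a b⟩, a, b, hab, rfl⟩, by simp [β₀, um]⟩
    · rintro ⟨g, a, b, hab, hg⟩ ⟨h, c, d, hcd, hh⟩
      have e : ((g * h : Matrix.SpecialLinearGroup (Fin 3) F) : Matrix (Fin 3) (Fin 3) F) =
          um (a + c) (b + d + a ^ 4 * c) := by
        rw [Matrix.SpecialLinearGroup.coe_mul, hg, hh, um_mul hF]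
      rw [Matrix.SpecialLinearGroup.coe_mul] at e
      simp [β₀, hg, hh, um]
      exact ⟨add_comm _ _, by ring⟩
  have hU64 : Nat.card π.range = 2 ^ 6 := by
    rw [← Nat.card_congr (MonoidHom.ofInjective hπ).toEquiv, (coord_facts hF hβ₀).1]
    norm_num
  have hcard := Cfsg.Agent.S0280.result hK 3 (by norm_num)
  norm_num [Finset.prod_range_succ, Nat.even_iff] at hcard
  have hG : Nat.card (Cfsg.PSU 3 F 4) = 2 ^ 6 * 975 := by
    rw [Nat.card_eq_fintype_card]
    omega
  have hidx : ¬ 2 ∣ π.range.index := by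
    have := π.range.card_mul_index
    rw [hU64, hG] at this
    omega
  let T : Sylow 2 (Cfsg.PSU 3 F 4) :=
    IsPGroup.toSylow (IsPGroup.of_card (n := 6) hU64) hidx
  have e1 : U ≃* (T : Subgroup (Cfsg.PSU 3 F 4)) := MonoidHom.ofInjective hπ
  let e := e1.trans (T.equiv S)
  refine ⟨β₀ ∘ e.symm, hβ₀.inj.comp e.symm.injective, fun g => hβ₀.rel _, fun a b hab => ?_,
    fun g h => ?_⟩
  · obtain ⟨u, hu⟩ := hβ₀.surj a b hab
    exact ⟨e u, by simp [hu]⟩
  · simp only [Function.comp_apply, map_mul, hβ₀.mul]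

end Field16

end CfsgLib.TwoFusion.PSUFour
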