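/-
Fine–Herstein: the number of nilpotent endomorphisms of `F ^ n` is `q ^ (n (n - 1))`, by counting
Fitting decompositions.
-/
import Mathlib

set_option autoImplicit false

namespace CfsgLib.TwoFusion.NilCount

open Module

variable (F : Type*) [Field F]

/-- The standard space. -/
abbrev Sp (n : ℕ) := Fin n → F

/-- The nilpotent endomorphisms. -/
abbrev Nil (n : ℕ) := {a : Module.End F (Sp F n) // IsNilpotent a}

variable {F}
variable {V W V' W' X : Type*} [AddCommGroup V] [AddCommGroup W] [AddCommGroup V'] [AddCommGroup W']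
  [AddCommGroup X] [Module F V] [Module F W] [Module F V'] [Module F W'] [Module F X]

/-- An intertwiner between "nilpotent ⊕ invertible" respects the summands. -/
theorem intertwiner {a : Module.End F V} {b : Module.End F W} {a' : Module.End F V'}
    {b' : Module.End F W'} (ha : IsNilpotent a) (hb : Function.Bijective b) (ha' : IsNilpotent a')
    (hb' : Function.Bijective b') (T : V' × W' →ₗ[F] V × W)
    (h : ∀ z, T ((a' : V' →ₗ[F] V').prodMap b' z) = (a : V →ₗ[F] V).prodMap b (T z)) :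
    (∀ x, (T (x, 0)).2 = 0) ∧ ∀ y, (T (0, y)).1 = 0 := by
  have hpow : ∀ (j : ℕ) (x : V') (y : W'), T ((a' ^ j) x, (b' ^ j) y)
      = ((a ^ j) (T (x, y)).1, (b ^ j) (T (x, y)).2) := by
    intro j
    induction j with
    | zero => intro x y; rfl
    | succ j ih =>
      intro x y
      rw [pow_succ', pow_succ', pow_succ', pow_succ', Module.End.mul_apply, Module.End.mul_apply,
        Module.End.mul_apply, Module.End.mul_apply]
      have := h ((a' ^ j) x, (b' ^ j) y)
      rw [LinearMap.prodMap_apply, ih] at this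
      exact this
  constructor
  · intro x
    obtain ⟨j, hj⟩ := ha'
    have h1 := hpow j x 0
    rw [hj, LinearMap.zero_apply, map_zero, Prod.mk_zero_zero, map_zero] at h1
    have h2 : (b ^ j) (T (x, 0)).2 = 0 := (congrArg Prod.snd h1).symm
    have hinj : Function.Injective ⇑(b ^ j) := by rw [Module.End.coe_pow]; exact hb.1.iterate j
    exact hinj (h2.trans (map_zero _).symm)
  · intro y
    obtain ⟨j, hj⟩ := ha
    have hsurj : Function.Surjective ⇑(b' ^ j) := by rw [Module.End.coe_pow]; exact hb'.2.iterate j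
    obtain ⟨z, rfl⟩ := hsurj y
    have h1 := hpow j 0 z
    rw [map_zero, hj, LinearMap.zero_apply] at h1
    exact congrArg Prod.fst h1

/-- The endomorphism with given nilpotent and invertible parts. -/
def assemble {k l : ℕ} (p : ((Sp F k × Sp F l) ≃ₗ[F] X) × Nil F k × (Sp F l ≃ₗ[F] Sp F l)) :
    Module.End F X :=
  p.1.toLinearMap ∘ₗ (p.2.1.1 : Sp F k →ₗ[F] Sp F k).prodMap p.2.2.toLinearMap ∘ₗ p.1.symm.toLinearMap

theorem assemble_apply {k l : ℕ}
    (p : ((Sp F k × Sp F l) ≃ₗ[F] X) × Nil F k × (Sp F l ≃ₗ[F] Sp F l)) (x : X) :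
    assemble p x = p.1 (p.2.1.1 (p.1.symm x).1, p.2.2 (p.1.symm x).2) := rfl

/-- Two decompositions of the same endomorphism differ by a pair of maps. -/
theorem assemble_eq {k l k' l' : ℕ}
    (p : ((Sp F k × Sp F l) ≃ₗ[F] X) × Nil F k × (Sp F l ≃ₗ[F] Sp F l))
    (p' : ((Sp F k' × Sp F l') ≃ₗ[F] X) × Nil F k' × (Sp F l' ≃ₗ[F] Sp F l'))
    (h : assemble p = assemble p') :
    (∀ x, (p.1.symm (p'.1 (x, 0))).2 = 0) ∧ ∀ y, (p.1.symm (p'.1 (0, y))).1 = 0 := by
  refine intertwiner (a := p.2.1.1) (b := p.2.2.toLinearMap) (a' := p'.2.1.1)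
    (b' := p'.2.2.toLinearMap) p.2.1.2 p.2.2.bijective p'.2.1.2 p'.2.2.bijective
    (p'.1.trans p.1.symm).toLinearMap fun z => ?_
  have h1 := congrArg (fun f : Module.End F X => p.1.symm (f (p'.1 z))) h
  simp only [assemble_apply, LinearEquiv.symm_apply_apply] at h1
  obtain ⟨z1, z2⟩ := z
  simpa using h1.symm

theorem assemble_index {k l k' l' : ℕ}
    (p : ((Sp F k × Sp F l) ≃ₗ[F] X) × Nil F k × (Sp F l ≃ₗ[F] Sp F l))
    (p' : ((Sp F k' × Sp F l') ≃ₗ[F] X) × Nil F k' × (Sp F l' ≃ₗ[F] Sp F l'))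
    (h : assemble p = assemble p') : k' ≤ k := by
  let g : Sp F k' →ₗ[F] Sp F k := LinearMap.fst F _ _ ∘ₗ (p'.1.trans p.1.symm).toLinearMap ∘ₗ
    LinearMap.inl F _ _
  have hg : Function.Injective g := by
    intro x y hxy
    obtain ⟨h1, -⟩ := assemble_eq p p' h
    have e : (p'.1.trans p.1.symm) (x, 0) = (p'.1.trans p.1.symm) (y, 0) :=
      Prod.ext hxy ((h1 x).trans (h1 y).symm)
    exact (Prod.ext_iff.1 ((p'.1.trans p.1.symm).injective e)).1
  simpa using LinearMap.finrank_le_finrank_of_injective hg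

/-- The fibres are torsors for the two general linear groups. -/
noncomputable def fibreEquiv {k l : ℕ}
    (p : ((Sp F k × Sp F l) ≃ₗ[F] X) × Nil F k × (Sp F l ≃ₗ[F] Sp F l)) :
    {q : ((Sp F k × Sp F l) ≃ₗ[F] X) × Nil F k × (Sp F l ≃ₗ[F] Sp F l) //
      assemble q = assemble p} ≃ (Sp F k ≃ₗ[F] Sp F k) × (Sp F l ≃ₗ[F] Sp F l) := by
  classical
  refine Equiv.symm (Equiv.ofBijective (fun gh => ⟨((gh.1.prodCongr gh.2).trans p.1,
      ⟨gh.1.symm.conj p.2.1.1, p.2.1.2.map (gh.1.symm.conjAlgEquiv F)⟩,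
      (gh.2.trans p.2.2).trans gh.2.symm), ?_⟩) ⟨?_, ?_⟩)
  · refine LinearMap.ext fun x => ?_
    simp [assemble_apply, LinearEquiv.conj_apply]
  · rintro ⟨g, h⟩ ⟨g', h'⟩ e
    simp only [Subtype.mk.injEq, Prod.mk.injEq] at e
    have e1 : g.prodCongr h = g'.prodCongr h' := LinearEquiv.ext fun z =>
      p.1.injective (by simpa using LinearEquiv.congr_fun e.1 z)
    refine Prod.ext (LinearEquiv.ext fun x => ?_) (LinearEquiv.ext fun y => ?_)
    · simpa using congrArg Prod.fst (LinearEquiv.congr_fun e1 (x, 0))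
    · simpa using congrArg Prod.snd (LinearEquiv.congr_fun e1 (0, y))
  · rintro ⟨q, hq⟩
    obtain ⟨h1, h2⟩ := assemble_eq p q hq.symm
    set T := q.1.trans p.1.symm with hT
    let g : Sp F k →ₗ[F] Sp F k := LinearMap.fst F _ _ ∘ₗ T.toLinearMap ∘ₗ LinearMap.inl F _ _
    let h : Sp F l →ₗ[F] Sp F l := LinearMap.snd F _ _ ∘ₗ T.toLinearMap ∘ₗ LinearMap.inr F _ _
    have hTz : ∀ x y, T (x, y) = (g x, h y) := fun x y => by
      have e : (x, y) = (x, (0 : Sp F l)) + ((0 : Sp F k), y) := by simp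
      rw [e, map_add]
      refine Prod.ext ?_ ?_
      · show (T (x, 0)).1 + (T (0, y)).1 = g x
        rw [show (T (0, y)).1 = 0 from h2 y, add_zero]; rfl
      · show (T (x, 0)).2 + (T (0, y)).2 = h y
        rw [show (T (x, 0)).2 = 0 from h1 x, zero_add]; rfl
    have hgi : Function.Injective g := fun x x' e =>
      (Prod.ext_iff.1 (T.injective (show T (x, 0) = T (x', 0) by rw [hTz, hTz, e]))).1
    have hhi : Function.Injective h := fun y y' e =>
      (Prod.ext_iff.1 (T.injective (show T (0, y) = T (0, y') by rw [hTz, hTz, e]))).2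
    refine ⟨(LinearEquiv.ofInjectiveEndo g hgi, LinearEquiv.ofInjectiveEndo h hhi), Subtype.ext ?_⟩
    have hq1 : ∀ x y, p.1 (g x, h y) = q.1 (x, y) := fun x y => by
      rw [← hTz]; simp [hT]
    have hint : ∀ x y, (g (q.2.1.1 x), h (q.2.2 y)) = (p.2.1.1 (g x), p.2.2 (h y)) := fun x y => by
      have e := LinearMap.congr_fun hq (q.1 (x, y))
      simp only [assemble_apply, LinearEquiv.symm_apply_apply] at e
      rw [← hq1 x y, LinearEquiv.symm_apply_apply, ← hq1] at e
      exact p.1.injective e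
    refine Prod.ext (LinearEquiv.ext fun z => ?_) (Prod.ext (Subtype.ext (LinearMap.ext fun x => ?_))
      (LinearEquiv.ext fun y => ?_))
    · obtain ⟨x, y⟩ := z
      simpa using hq1 x y
    · show (LinearEquiv.ofInjectiveEndo g hgi).symm.conj p.2.1.1 x = q.2.1.1 x
      rw [LinearEquiv.conj_apply]
      simp only [LinearMap.coe_comp, LinearEquiv.coe_coe, Function.comp_apply, LinearEquiv.symm_symm]
      rw [LinearEquiv.symm_apply_eq]
      exact (congrArg Prod.fst (hint x 0)).symm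
    · show (LinearEquiv.ofInjectiveEndo h hhi).symm (p.2.2 ((LinearEquiv.ofInjectiveEndo h hhi) y))
        = q.2.2 y
      rw [LinearEquiv.symm_apply_eq]
      exact (congrArg Prod.snd (hint 0 y)).symm

/-- Every endomorphism is "nilpotent ⊕ invertible". -/
theorem assemble_surjective [FiniteDimensional F X] {n : ℕ} (hn : finrank F X = n)
    (f : Module.End F X) :
    ∃ k ≤ n, ∃ p : ((Sp F k × Sp F (n - k)) ≃ₗ[F] X) × Nil F k × (Sp F (n - k) ≃ₗ[F] Sp F (n - k)),
      assemble p = f := by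
  obtain ⟨m₀, hm₀⟩ := Filter.eventually_atTop.1 f.eventually_isCompl_ker_pow_range_pow
  set m := m₀ + 1
  have hc : IsCompl (LinearMap.ker (f ^ m)) (LinearMap.range (f ^ m)) := hm₀ m (Nat.le_succ _)
  set K := LinearMap.ker (f ^ m) with hK
  set R := LinearMap.range (f ^ m) with hR
  set k := finrank F K with hk
  have hcomm : ∀ x, (f ^ m) (f x) = f ((f ^ m) x) := fun x => by
    rw [← Module.End.mul_apply, ← Module.End.mul_apply, ← pow_succ, ← pow_succ']
  have hfK : ∀ x ∈ K, f x ∈ K := fun x hx => by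
    rw [hK, LinearMap.mem_ker] at hx ⊢
    rw [hcomm, hx, map_zero]
  have hfR : ∀ x ∈ R, f x ∈ R := fun x hx => by
    obtain ⟨y, rfl⟩ := hx
    exact ⟨f y, hcomm y⟩
  have hkn : k ≤ n := hn ▸ Submodule.finrank_le K
  have hkR : finrank F R = n - k := by
    have := Submodule.finrank_add_eq_of_isCompl hc
    omega
  refine ⟨k, hkn, ?_⟩
  let eK : Sp F k ≃ₗ[F] K := LinearEquiv.ofFinrankEq _ _ (by rw [Module.finrank_fin_fun])
  let eR : Sp F (n - k) ≃ₗ[F] R := LinearEquiv.ofFinrankEq _ _ (by rw [Module.finrank_fin_fun, hkR])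
  let fK : Module.End F K := f.restrict hfK
  let fR : Module.End F R := f.restrict hfR
  have hnil : IsNilpotent fK := by
    refine ⟨m, LinearMap.ext fun x => Subtype.ext ?_⟩
    rw [Module.End.pow_restrict]
    exact x.2
  have hinj : Function.Injective fR := by
    rw [← LinearMap.ker_eq_bot, eq_bot_iff]
    intro x hx
    have hx0 : f x.1 = 0 := congrArg Subtype.val (LinearMap.mem_ker.1 hx)
    have hxK : x.1 ∈ K := by
      rw [hK, LinearMap.mem_ker, show m = m₀ + 1 from rfl, pow_succ, Module.End.mul_apply, hx0,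
        map_zero]
    exact Subtype.ext ((Submodule.disjoint_def.1 hc.disjoint) _ hxK x.2)
  refine ⟨((eK.prodCongr eR).trans (Submodule.prodEquivOfIsCompl K R hc),
    ⟨eK.symm.conj fK, hnil.map (eK.symm.conjAlgEquiv F)⟩,
    (eR.trans (LinearEquiv.ofInjectiveEndo fR hinj)).trans eR.symm), LinearMap.ext fun x => ?_⟩
  obtain ⟨z, rfl⟩ := (Submodule.prodEquivOfIsCompl K R hc).surjective x
  simp [assemble_apply, LinearEquiv.conj_apply, fK, fR]

variable (F)
variable [Fintype F]

noncomputable instance {n m : ℕ} : Finite ((Sp F n) ≃ₗ[F] (Sp F m)) :=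
  Finite.of_injective _ DFunLike.coe_injective

/-- The order of `GL n`. -/
noncomputable def glOrder (n : ℕ) : ℕ := Nat.card (Sp F n ≃ₗ[F] Sp F n)

theorem glOrder_eq (n : ℕ) :
    glOrder F n = ∏ i : Fin n, (Fintype.card F ^ n - Fintype.card F ^ (i : ℕ)) := by
  rw [← Matrix.card_GL_field]
  exact Nat.card_congr ((LinearMap.GeneralLinearGroup.generalLinearEquiv F (Sp F n)).symm.trans
    Matrix.GeneralLinearGroup.toLin.symm).toEquiv

theorem glOrder_succ (n : ℕ) :
    glOrder F (n + 1) = (Fintype.card F ^ (n + 1) - 1) * (Fintype.card F ^ n * glOrder F n) := by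
  rw [glOrder_eq, glOrder_eq, Fin.prod_univ_succ, Fin.val_zero, pow_zero]
  congr 1
  calc ∏ i : Fin n, (Fintype.card F ^ (n + 1) - Fintype.card F ^ ((i.succ : Fin (n + 1)) : ℕ))
      = ∏ i : Fin n, Fintype.card F * (Fintype.card F ^ n - Fintype.card F ^ (i : ℕ)) :=
        Finset.prod_congr rfl fun i _ => by rw [Fin.val_succ, Nat.mul_sub, ← pow_succ', ← pow_succ']
    _ = _ := by rw [Finset.prod_mul_distrib, Finset.prod_const, Finset.card_univ, Fintype.card_fin]

theorem sum_nil (n : ℕ) :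
    ∑ k ∈ Finset.range (n + 1), (Nat.card (Nil F k) : ℚ) / glOrder F k
      = (Fintype.card F : ℚ) ^ (n * n) / glOrder F n := by
  classical
  haveI : Finite (Module.End F (Sp F n)) := Finite.of_injective _ DFunLike.coe_injective
  haveI := Fintype.ofFinite (Module.End F (Sp F n))
  let Dom : Fin (n + 1) → Type _ := fun k =>
    ((Sp F k × Sp F (n - k)) ≃ₗ[F] Sp F n) × Nil F k × (Sp F (n - k) ≃ₗ[F] Sp F (n - k))
  let im : Fin (n + 1) → Finset (Module.End F (Sp F n)) := fun k =>
    Finset.univ.filter fun f => ∃ p : Dom k, assemble p = f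
  have hdis : ∀ a b : Fin (n + 1), a ≠ b → Disjoint (im a) (im b) := by
    intro a b hab
    rw [Finset.disjoint_left]
    intro f hfa hfb
    obtain ⟨p, hp⟩ := (Finset.mem_filter.1 hfa).2
    obtain ⟨p', hp'⟩ := (Finset.mem_filter.1 hfb).2
    have h1 := assemble_index p p' (hp.trans hp'.symm)
    have h2 := assemble_index p' p (hp'.trans hp.symm)
    exact hab (Fin.ext (le_antisymm h2 h1))
  have hcov : Finset.univ.biUnion im = (Finset.univ : Finset (Module.End F (Sp F n))) := by
    refine Finset.eq_univ_of_forall fun f => ?_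
    obtain ⟨k, hk, p, hp⟩ := assemble_surjective (X := Sp F n) (n := n) (by simp) f
    exact Finset.mem_biUnion.2 ⟨⟨k, Nat.lt_succ_of_le hk⟩, Finset.mem_univ _,
      Finset.mem_filter.2 ⟨Finset.mem_univ _, ⟨p, hp⟩⟩⟩
  have htot : ∑ k, (im k).card = Fintype.card F ^ (n * n) := by
    rw [← Finset.card_biUnion fun a _ b _ h => hdis a b h, hcov, Finset.card_univ,
      ← Nat.card_eq_fintype_card, Nat.card_congr (LinearMap.toMatrix' (R := F)).toEquiv,
      Nat.card_eq_fintype_card]
    rw [show Fintype.card (Matrix (Fin n) (Fin n) F) = Fintype.card (Fin n → Fin n → F) from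
        Fintype.card_congr (Matrix.of (m := Fin n) (n := Fin n) (α := F)).symm,
      Fintype.card_fun, Fintype.card_fun, Fintype.card_fin, pow_mul]
  -- the fibres
  have hfib : ∀ k : Fin (n + 1), (im k).card * glOrder F k = glOrder F n * Nat.card (Nil F k) := by
    intro k
    haveI : Finite ((Sp F k × Sp F (n - k)) ≃ₗ[F] Sp F n) := Finite.of_injective _ DFunLike.coe_injective
    haveI : Finite (Module.End F (Sp F k)) := Finite.of_injective _ DFunLike.coe_injective
    have e : Dom k ≃ Σ f : im k, (Sp F k ≃ₗ[F] Sp F k) × (Sp F (n - k) ≃ₗ[F] Sp F (n - k)) := by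
      refine (Equiv.sigmaFiberEquiv (fun p : Dom k => (⟨assemble p,
        Finset.mem_filter.2 ⟨Finset.mem_univ _, p, rfl⟩⟩ : im k))).symm.trans
        (Equiv.sigmaCongrRight fun f => ?_)
      have hp := (Finset.mem_filter.1 f.2).2
      refine (Equiv.subtypeEquivRight fun q => ?_).trans (fibreEquiv hp.choose)
      rw [Subtype.ext_iff]
      exact ⟨fun h => h.trans hp.choose_spec.symm, fun h => h.trans hp.choose_spec⟩
    have h := Nat.card_congr e
    rw [Nat.card_sigma, Finset.sum_const, Finset.card_univ, Fintype.card_coe, smul_eq_mul] at h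
    have hE : Nat.card ((Sp F k × Sp F (n - k)) ≃ₗ[F] Sp F n) = glOrder F n := by
      let e₀ : Sp F n ≃ₗ[F] (Sp F k × Sp F (n - k)) := LinearEquiv.ofFinrankEq _ _ (by simp; omega)
      exact Nat.card_congr ⟨fun e => e₀.trans e, fun e => e₀.symm.trans e,
        fun e => LinearEquiv.ext fun x => by simp, fun e => LinearEquiv.ext fun x => by simp⟩
    simp only [Dom, Nat.card_prod] at h
    rw [hE] at h
    refine Nat.eq_of_mul_eq_mul_right (Nat.card_pos (α := Sp F (n - k) ≃ₗ[F] Sp F (n - k))) ?_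
    rw [mul_assoc, mul_assoc]
    exact h.symm
  have hpos : ∀ j, (glOrder F j : ℚ) ≠ 0 := fun j => Nat.cast_ne_zero.2 Nat.card_pos.ne'
  rw [← Fin.sum_univ_eq_sum_range (fun k => (Nat.card (Nil F k) : ℚ) / glOrder F k), ← Nat.cast_pow,
    ← htot, Nat.cast_sum, Finset.sum_div]
  refine Finset.sum_congr rfl fun k _ => ?_
  rw [div_eq_div_iff (hpos _) (hpos _)]
  exact_mod_cast ((hfib k).trans (Nat.mul_comm _ _)).symm

theorem card_nil (n : ℕ) : Nat.card (Nil F n) = Fintype.card F ^ (n * (n - 1)) := by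
  have hpos : ∀ j, (glOrder F j : ℚ) ≠ 0 := fun j => Nat.cast_ne_zero.2 Nat.card_pos.ne'
  rcases n with - | m
  · rw [Nat.zero_mul, pow_zero, Nat.card_eq_one_iff_unique]
    exact ⟨inferInstance, ⟨⟨0, IsNilpotent.zero⟩⟩⟩
  · have h1 := sum_nil F (m + 1)
    rw [Finset.sum_range_succ, sum_nil F m] at h1
    set q := Fintype.card F with hq
    have hq1 : 1 ≤ q ^ (m + 1) := Nat.one_le_pow _ _ Fintype.card_pos
    have hg : (glOrder F (m + 1) : ℚ) = ((q : ℚ) ^ (m + 1) - 1) * ((q : ℚ) ^ m * glOrder F m) := by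
      rw [glOrder_succ, Nat.cast_mul, Nat.cast_mul, Nat.cast_sub hq1]
      push_cast
      ring
    have h2 : (Nat.card (Nil F (m + 1)) : ℚ) = (q : ℚ) ^ ((m + 1) * m) := by
      have e := eq_sub_of_add_eq' h1
      rw [div_eq_iff (hpos _), sub_mul, div_mul_cancel₀ _ (hpos _), hg,
        show (q : ℚ) ^ (m * m) / (glOrder F m : ℚ) * (((q : ℚ) ^ (m + 1) - 1) * ((q : ℚ) ^ m * glOrder F m))
          = (q : ℚ) ^ (m * m) * ((q : ℚ) ^ (m + 1) - 1) * (q : ℚ) ^ m by field_simp [hpos m]] at e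
      rw [e]
      ring
    rw [Nat.add_sub_cancel]
    exact_mod_cast h2

end CfsgLib.TwoFusion.NilCount
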